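import Groth.Agent.Hypercov.Values
import Groth.Agent.SiteCoh.CohPresheaf
import Groth.Agent.GrothSS.Inputs
import Groth.Agent.GrothSS.ExtRD
import Groth.Prelude.Def_Hyper

/-! # Čech cohomology of a hypercovering and the spectral sequence to sheaf cohomology -/

set_option autoImplicit false
set_option linter.all false
set_option backward.isDefEq.respectTransparency false
set_option backward.defeqAttrib.useBackward true

universe u

open CategoryTheory CategoryTheory.Limits Opposite Simplicial AlgebraicTopology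

namespace Groth.Agent.Hypercov

variable {C : Type u} [SmallCategory C] (J : GrothendieckTopology C) (K : SimplicialObject (FormalCoproduct.{u} C))

/-- the values of a sheaf on a simplicial formal coproduct -/
noncomputable abbrev valF : Sheaf J AddCommGrpCat.{u} ⥤ Cs.{u} :=
  sheafToPresheaf J AddCommGrpCat.{u} ⋙ FormalCoproduct.cosimplicialObjectFunctor K

/-- the free complex -/
noncomputable abbrev freeK : ChainComplex (Sheaf J AddCommGrpCat.{u}) ℕ :=
  (alternatingFaceMapComplex (Sheaf J AddCommGrpCat.{u})).obj ((K ⋙ FormalCoproduct.yoneda.{u}) ⋙ freeShF J)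

/-- the augmentation -/
noncomputable def augK (q : SimplexCategory) : (freeFam J).obj (K.obj (op q)) ⟶ zPoint J :=
  (freeShF J).map ((toOne (K ⋙ FormalCoproduct.yoneda.{u})).app (op q))

lemma augK_map {q r : SimplexCategory} (α : q ⟶ r) : (freeFam J).map (K.map α.op) ≫ augK J K q = augK J K r := by
  refine ((freeShF J).map_comp _ _).symm.trans (congrArg (freeShF J).map ?_)
  ext U x
  rfl

lemma augMap_f_zero : (augMap C J (K ⋙ FormalCoproduct.yoneda.{u})).f 0 = augK J K ⦋0⦌ := by
  simp [augMap, oneCxEquiv, constExtraDegeneracy, SimplicialObject.Augmented.ExtraDegeneracy.homotopyEquiv,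
    HomotopyEquiv.trans, augK, AlternatingFaceMapComplex.ε_app_f_zero]
  exact Category.comp_id _

variable {J K}

lemma exists_cokernel (hL : LocLift J (toOne (K ⋙ FormalCoproduct.yoneda.{u}))) :
    ∃ h : (freeK J K).d 1 0 ≫ augK J K ⦋0⦌ = 0, Nonempty (IsColimit (CokernelCofork.ofπ (augK J K ⦋0⦌) h)) := by
  haveI := quasiIso_augMap J hL
  rw [← augMap_f_zero]
  exact exact_epi_of_quasiIso _ (augMap C J (K ⋙ FormalCoproduct.yoneda.{u}))

/-- values on the simplices -/
noncomputable abbrev valK (F : Sheaf J AddCommGrpCat.{u}) (n : ℕ) :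
    ((freeK J K).X n ⟶ F) ≃+ ((valF J K).obj F).obj ⦋n⦌ :=
  valEquiv F (K.obj (op ⦋n⦌))

lemma valK_d (F : Sheaf J AddCommGrpCat.{u}) (n : ℕ) (φ : (freeK J K).X n ⟶ F) :
    valK F (n + 1) ((freeK J K).d (n + 1) n ≫ φ) = (altC.obj ((valF J K).obj F)).d n (n + 1) (valK F n φ) :=
  alternating_dual ((K ⋙ FormalCoproduct.yoneda.{u}) ⋙ freeShF J) ((valF J K).obj F) F
    (fun m => valK F m) (fun m i ψ => valEquiv_map (K.δ i) ψ) n φ

variable (J K) in
/-- the cone of values of maps out of the point -/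
noncomputable def valCone (F : Sheaf J AddCommGrpCat.{u}) : Cone ((valF J K).obj F) where
  pt := (preadditiveCoyoneda.obj (op (zPoint J))).obj F
  π :=
    { app := fun q => AddCommGrpCat.ofHom (AddMonoidHom.mk'
        (fun φ => valEquiv F (K.obj (op q)) (augK J K q ≫ φ))
        (fun φ ψ => (congrArg _ (Preadditive.comp_add _ _ _ _ _ _)).trans (map_add _ _ _)))
      naturality := fun q r α => by
        ext φ
        show valEquiv F (K.obj (op r)) (augK J K r ≫ φ) =
          ((valF J K).obj F).map α (valEquiv F (K.obj (op q)) (augK J K q ≫ φ))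
        rw [← augK_map J K α, Category.assoc]
        exact valEquiv_map (K.map α.op) (augK J K q ≫ φ) }

variable (J K) in
/-- maps out of the point to compatible values -/
noncomputable def toLimVal : preadditiveCoyoneda.obj (op (zPoint J)) ⟶ valF J K ⋙ limF where
  app F := limit.lift _ (valCone J K F)
  naturality F G g := limit.hom_ext fun q => by
    refine (Category.assoc _ _ _).trans ((((preadditiveCoyoneda.obj (op (zPoint J))).map g) ≫=
      limit.lift_π (valCone J K G) q).trans ?_)
    refine Eq.trans ?_ ((Category.assoc _ _ _).trans ((limit.lift _ (valCone J K F)) ≫=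
      limMap_π ((valF J K).map g) q)).symm
    refine Eq.trans ?_ ((limit.lift_π_assoc (valCone J K F) q (((valF J K).map g).app q))).symm
    ext φ
    show valEquiv G (K.obj (op q)) (augK J K q ≫ φ ≫ g) =
      ((valF J K).map g).app q (valEquiv F (K.obj (op q)) (augK J K q ≫ φ))
    rw [← Category.assoc]
    exact valEquiv_comp _ g

lemma lim_π_zero_injective (X : Cs.{u}) : Function.Injective (limit.π X ⦋0⦌) :=
  fun a b e => Concrete.limit_ext X a b fun q => by
    rw [← limit.w X (SimplexCategory.const ⦋0⦌ q 0), ConcreteCategory.comp_apply, ConcreteCategory.comp_apply, e]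

theorem isIso_toLimVal (hL : LocLift J (toOne (K ⋙ FormalCoproduct.yoneda.{u}))) : IsIso (toLimVal J K) := by
  obtain ⟨h, ⟨hc⟩⟩ := exists_cokernel hL
  haveI : Epi (augK J K ⦋0⦌) := epi_of_isColimit_cofork hc
  haveI : ∀ F, IsIso ((toLimVal J K).app F) := fun F => by
    rw [ConcreteCategory.isIso_iff_bijective]
    have hπ : ∀ φ, limit.π ((valF J K).obj F) ⦋0⦌ ((toLimVal J K).app F φ) = valK F 0 (augK J K ⦋0⦌ ≫ φ) := fun φ =>
      ConcreteCategory.congr_hom (limit.lift_π (valCone J K F) ⦋0⦌) φ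
    refine ⟨fun φ ψ e => ?_, fun a => ?_⟩
    · have := congrArg (limit.π ((valF J K).obj F) ⦋0⦌) e
      rw [hπ, hπ] at this
      exact (cancel_epi _).1 ((valK F 0).injective this)
    · let ψ := (valK F 0).symm (limit.π ((valF J K).obj F) ⦋0⦌ a)
      have hψ : (freeK J K).d 1 0 ≫ ψ = 0 := by
        apply (valK F 1).injective
        rw [map_zero]
        refine (valK_d F 0 ψ).trans ?_
        rw [AddEquiv.apply_symm_apply]
        exact ConcreteCategory.congr_hom (limToZero_d ((valF J K).obj F)) a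
      refine ⟨Cofork.IsColimit.desc hc ψ (by rw [hψ, zero_comp]), lim_π_zero_injective _ ?_⟩
      rw [hπ]
      exact (congrArg (valK F 0) (Cofork.IsColimit.π_desc' hc ψ _)).trans ((valK F 0).apply_symm_apply _)
  exact NatIso.isIso_of_isIso_app _

/-- `Hom(ℤ, -) ≅ lim F(K)` -/
noncomputable def homLimIso (hL : LocLift J (toOne (K ⋙ FormalCoproduct.yoneda.{u}))) :
    preadditiveCoyoneda.obj (op (zPoint J)) ≅ valF J K ⋙ limF :=
  haveI := isIso_toLimVal hL
  asIso (toLimVal J K)

/-- injective sheaves are acyclic for the hypercovering -/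
theorem isZero_csH_valF (hL : LocLift J (toOne (K ⋙ FormalCoproduct.yoneda.{u}))) (I : Sheaf J AddCommGrpCat.{u})
    [Injective I] (p : ℕ) : IsZero ((csH (p + 1)).obj ((valF J K).obj I)) := by
  apply HomologicalComplex.ExactAt.isZero_homology
  rw [HomologicalComplex.exactAt_iff' _ p (p + 1) (p + 2) (by simp) (by simp), ShortComplex.ab_exact_iff]
  intro x hx
  let φ := (valK I (p + 1)).symm x
  have hφ : (freeK J K).d (p + 2) (p + 1) ≫ φ = 0 := by
    apply (valK I (p + 2)).injective
    rw [map_zero]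
    refine (valK_d I (p + 1) φ).trans ?_
    rw [AddEquiv.apply_symm_apply]
    exact hx
  have hex : (freeK J K).ExactAt (p + 1) :=
    ((freeK J K).exactAt_iff_isZero_homology (p + 1)).2 (isZero_homology_free J hL p)
  have hex' := ((freeK J K).exactAt_iff' (p + 2) (p + 1) p (by simp) (by simp)).1 hex
  let ψ := hex'.descToInjective φ hφ
  refine ⟨valK I p ψ, ?_⟩
  refine (valK_d I p ψ).symm.trans ?_
  rw [show (freeK J K).d (p + 1) p ≫ ψ = φ from hex'.comp_descToInjective φ hφ]
  exact (valK I (p + 1)).apply_symm_apply x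

/-- `Hom(ℤ, F) = Γ(F)` -/
noncomputable def homZLimit (F : Sheaf J AddCommGrpCat.{u}) :
    (preadditiveCoyoneda.obj (op (zPoint J))).obj F ≅ limit F.obj :=
  haveI : (lim : (Cᵒᵖ ⥤ AddCommGrpCat.{u}) ⥤ AddCommGrpCat.{u}).Additive :=
    { map_add := fun {X Y f g} => limit.hom_ext fun q => by
        rw [Preadditive.add_comp]
        exact ((limMap_π (f + g) q).trans (Preadditive.comp_add _ _ _ _ _ _)).trans
          (congrArg₂ (· + ·) (limMap_π f q).symm (limMap_π g q).symm) }
  let adj := constLimAdj.comp (sheafificationAdjunction J AddCommGrpCat.{u})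
  let f : ((constantSheaf J AddCommGrpCat.{u}).obj (AddCommGrpCat.of (ULift.{u} ℤ)) ⟶ F) →+ (limit F.obj : AddCommGrpCat.{u}) :=
    AddMonoidHom.mk' (fun φ => adj.homEquiv _ F φ ⟨1⟩) fun φ ψ => by
      simp only [Adjunction.homEquiv_unit, Functor.map_add, Preadditive.comp_add]
      rfl
  (preadditiveCoyoneda.mapIso (zPointIso J).symm.op).app F ≪≫
    AddEquiv.toAddCommGrpIso (AddEquiv.ofBijective f (by
      refine Function.Bijective.comp (g := fun m : AddCommGrpCat.of (ULift.{u} ℤ) ⟶ limit F.obj => m ⟨1⟩) ?_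
        (adj.homEquiv _ F).bijective
      refine ⟨fun a b h => ?_, fun x => ?_⟩
      · ext ⟨m⟩
        have e : (⟨m⟩ : ULift.{u} ℤ) = m • (⟨1⟩ : ULift.{u} ℤ) := by ext; simp
        rw [e, map_zsmul, map_zsmul]
        exact congrArg (m • ·) h
      · refine ⟨AddCommGrpCat.ofHom ((zmultiplesHom _ x).comp (AddEquiv.ulift : ULift.{u} ℤ ≃+ ℤ).toAddMonoidHom), ?_⟩
        exact one_zsmul x))

/-- `Hom(ℤ, -)` derived is sheaf cohomology -/
theorem nonempty_rightDerived_hom_H (F : Sheaf J AddCommGrpCat.{u}) (n : ℕ) :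
    Nonempty (((preadditiveCoyoneda.obj (op (zPoint J))).rightDerived n).obj F ≅ AddCommGrpCat.of (Sheaf.H F n)) :=
  ⟨(GrothSS.rightDerivedCongr (preadditiveCoyoneda.mapIso (zPointIso J).symm.op) n).app F ≪≫
    (GrothSS.nonempty_rightDerived_hom_iso ((constantSheaf J AddCommGrpCat.{u}).obj (AddCommGrpCat.of (ULift.{u} ℤ))) F n).some⟩

variable (K) in
/-- the cosimplicial group of values of a presheaf -/
noncomputable abbrev preF : (Cᵒᵖ ⥤ AddCommGrpCat.{u}) ⥤ Cs.{u} := FormalCoproduct.cosimplicialObjectFunctor K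

instance additive_preF : (preF K).Additive where
  map_add {P Q f g} := NatTrans.ext (funext fun q => Pi.hom_ext _ _ fun i => by
    simp [preF, FormalCoproduct.cosimplicialObjectFunctor])

instance preservesHomology_preF : (preF K).PreservesHomology := by
  refine Functor.preservesHomology_of_map_exact _ fun S hS => ?_
  rw [ShortComplex.exact_iff_isZero_homology, Functor.isZero_iff]
  intro q
  refine IsZero.of_iso ?_ (ShortComplex.mapHomologyIso _ ((evaluation SimplexCategory AddCommGrpCat.{u}).obj q)).symm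
  rw [← ShortComplex.exact_iff_isZero_homology]
  refine (ShortComplex.ab_exact_iff _).2 fun x hx => ?_
  let 𝒰 := K.obj (op q)
  have h0 : ∀ i, S.g.app (op (𝒰.obj i)) (Pi.π (fun i : 𝒰.I => S.X₂.obj (op (𝒰.obj i))) i x) = 0 := fun i =>
    (ConcreteCategory.congr_hom (Pi.map_π (fun i : 𝒰.I => S.g.app (op (𝒰.obj i))) i) x).symm.trans
      ((congrArg (Pi.π (fun i : 𝒰.I => S.X₃.obj (op (𝒰.obj i))) i) hx).trans (map_zero _))
  choose s hs using fun i => (ShortComplex.ab_exact_iff _).1 (hS.map ((evaluation Cᵒᵖ AddCommGrpCat.{u}).obj (op (𝒰.obj i)))) _ (h0 i)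
  let e := Concrete.productEquiv (fun i : 𝒰.I => S.X₁.obj (op (𝒰.obj i)))
  let e' := Concrete.productEquiv (fun i : 𝒰.I => S.X₂.obj (op (𝒰.obj i)))
  refine ⟨e.symm s, e'.injective (funext fun i => (Concrete.productEquiv_apply_apply (fun i : 𝒰.I => S.X₂.obj (op (𝒰.obj i))) _ i).trans (Eq.trans ?_ (Concrete.productEquiv_apply_apply (fun i : 𝒰.I => S.X₂.obj (op (𝒰.obj i))) x i).symm))⟩
  refine (ConcreteCategory.congr_hom (Pi.map_π (fun i : 𝒰.I => S.f.app (op (𝒰.obj i))) i) (e.symm s)).trans ?_
  refine Eq.trans (congrArg (S.f.app (op (𝒰.obj i))) ?_) (hs i)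
  exact Concrete.productEquiv_symm_apply_π _ s i

instance additive_valF : (valF J K).Additive :=
  inferInstanceAs (sheafToPresheaf J AddCommGrpCat.{u} ⋙ preF K).Additive

/-- the derived functors of the values are the values of the cohomology presheaves -/
theorem nonempty_rightDerived_valF (F : Sheaf J AddCommGrpCat.{u}) (q : ℕ) :
    Nonempty (((valF J K).rightDerived q).obj F ≅ (preF K).obj (Sheaf.cohomologyPresheaf F q)) := by
  let R := injectiveResolution F
  exact ⟨R.isoRightDerivedObj (valF J K) q ≪≫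
    ((SiteCoh.preCx R).sc q).mapHomologyIso (preF K) ≪≫ (preF K).mapIso (SiteCoh.cohPresheafIso R q)⟩

theorem exists_spectralSequence (hL : LocLift J (toOne (K ⋙ FormalCoproduct.yoneda.{u}))) (F : Sheaf J AddCommGrpCat.{u}) :
    ∃ (E : E₂CohomologicalSpectralSequence AddCommGrpCat.{u})
      (a : SpSeq.Abutment E (fun n : ℤ => if 0 ≤ n then AddCommGrpCat.of (Sheaf.H F n.toNat) else AddCommGrpCat.of PUnit.{u + 1})),
      (∀ n, a.IsFinite n) ∧ SpSeq.IsBounded E ∧
      ∀ p q : ℤ, Nonempty ((E.page 2 le_rfl).X (p, q) ≅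
        (if 0 ≤ p ∧ 0 ≤ q then (Hyper.cechCxSite K (Sheaf.cohomologyPresheaf F q.toNat)).homology p.toNat
         else AddCommGrpCat.of PUnit.{u + 1})) :=
  GrothSS.exists_spectralSequence_comp_ite (valF J K) limF
    (fun Q hQ => isAcyclicObj_lim fun p => @isZero_csH_valF _ _ J K hL Q hQ p) F _
    (AddCommGrpCat.isZero_of_subsingleton (AddCommGrpCat.of PUnit.{u + 1}))
    (fun n => AddCommGrpCat.of (Sheaf.H F n))
    (fun n => ⟨(GrothSS.rightDerivedCongr (homLimIso hL).symm n).app F ≪≫ (nonempty_rightDerived_hom_H F n).some⟩)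
    (fun p q => (Hyper.cechCxSite K (Sheaf.cohomologyPresheaf F q)).homology p)
    (fun p q => ⟨(nonempty_rightDerived_lim_iso p _).some ≪≫ (csH p).mapIso (nonempty_rightDerived_valF F q).some⟩)

/-- `H⁰(K, F) = Γ(F)` -/
theorem nonempty_cech_zero (hL : LocLift J (toOne (K ⋙ FormalCoproduct.yoneda.{u}))) (F : Sheaf J AddCommGrpCat.{u}) :
    Nonempty ((Hyper.cechCxSite K F.obj).homology 0 ≅ limit F.obj) :=
  ⟨(limIsoH0.app ((valF J K).obj F)).symm ≪≫ ((homLimIso hL).app F).symm ≪≫ homZLimit F⟩

end Groth.Agent.Hypercov
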