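import Groth.Agent.Hypercov.Sources
import Mathlib.Algebra.Homology.QuasiIso
import Mathlib.Algebra.Homology.SingleHomology
import Mathlib.Algebra.Homology.HomotopyCategory
import Mathlib.CategoryTheory.Sites.ConstantSheaf
import Mathlib.Algebra.Category.Grp.Abelian
import Mathlib.CategoryTheory.Sites.Abelian

/-! # The free chain complex of a locally trivial simplicial presheaf resolves `ℤ` -/

set_option autoImplicit false
set_option linter.all false
set_option backward.isDefEq.respectTransparency false
set_option backward.defeqAttrib.useBackward true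

universe u

open CategoryTheory CategoryTheory.Limits Opposite Simplicial AlgebraicTopology

namespace Groth.Agent.Hypercov

variable {C : Type u} [SmallCategory C] (J : GrothendieckTopology C)

/-- the free abelian sheaf functor -/
noncomputable abbrev freeShF : (Cᵒᵖ ⥤ Type u) ⥤ Sheaf J AddCommGrpCat.{u} :=
  freePre C ⋙ presheafToSheaf J AddCommGrpCat.{u}

/-- `ℤ` -/
noncomputable abbrev zPoint : Sheaf J AddCommGrpCat.{u} := (freeShF J).obj (onePre C)

/-- `ℤ[pt] = ℤ` -/
noncomputable def zEquiv : FreeAbelianGroup PUnit.{u + 1} ≃+ ULift.{u} ℤ :=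
  (FreeAbelianGroup.uniqueEquiv PUnit.{u + 1}).trans (AddEquiv.ulift : ULift.{u} ℤ ≃+ ℤ).symm

/-- `ℤ` is the constant sheaf -/
noncomputable def zPointIso :
    zPoint J ≅ (constantSheaf J AddCommGrpCat.{u}).obj (AddCommGrpCat.of (ULift.{u} ℤ)) :=
  (presheafToSheaf J AddCommGrpCat.{u}).mapIso (NatIso.ofComponents
    (fun _ => zEquiv.{u}.toAddCommGrpIso)
    (fun {X Y} g => by
      ext z
      exact congrArg zEquiv.{u} (FreeAbelianGroup.map_id_apply z)))

/-- the constant simplicial object is split -/
def constExtraDegeneracy {A : Type*} [Category A] (X : A) :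
    SimplicialObject.Augmented.ExtraDegeneracy ((SimplicialObject.Augmented.const (C := A)).obj X) where
  s' := 𝟙 X
  s _ := 𝟙 X
  s'_comp_ε := Category.id_comp _
  s₀_comp_δ₁ := rfl
  s_comp_δ₀ _ := Category.id_comp _
  s_comp_δ _ _ := rfl
  s_comp_σ _ _ := rfl

/-- the chain complex of the simplicial point -/
noncomputable def oneCxEquiv :
    HomotopyEquiv ((alternatingFaceMapComplex (Sheaf J AddCommGrpCat.{u})).obj (oneS C ⋙ freeShF J))
      ((ChainComplex.single₀ _).obj (zPoint J)) :=
  (HomotopyEquiv.ofIso ((alternatingFaceMapComplex (Sheaf J AddCommGrpCat.{u})).mapIso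
    (Functor.constComp SimplexCategoryᵒᵖ (onePre C) (freeShF J)))).trans
    (constExtraDegeneracy (zPoint J)).homotopyEquiv

variable (C) in
/-- augmentation of the free chain complex -/
noncomputable def augMap (L : SPre C) :
    (alternatingFaceMapComplex (Sheaf J AddCommGrpCat.{u})).obj (L ⋙ freeShF J) ⟶
      (ChainComplex.single₀ _).obj (zPoint J) :=
  (alternatingFaceMapComplex (Sheaf J AddCommGrpCat.{u})).map (Functor.whiskerRight (toOne L) (freeShF J)) ≫
    (oneCxEquiv J).hom

theorem quasiIso_augMap {L : SPre C} (hL : LocLift J (toOne L)) : QuasiIso (augMap C J L) := by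
  haveI : QuasiIso ((alternatingFaceMapComplex (Sheaf J AddCommGrpCat.{u})).map
      (Functor.whiskerRight (toOne L) (freeShF J))) := by
    rw [quasiIso_iff]
    intro i
    rw [quasiIsoAt_iff_isIso_homologyMap]
    exact isIso_homologyMap_free J (toOne L) hL i
  unfold augMap
  infer_instance

theorem isZero_homology_free {L : SPre C} (hL : LocLift J (toOne L)) (n : ℕ) :
    IsZero (((alternatingFaceMapComplex (Sheaf J AddCommGrpCat.{u})).obj (L ⋙ freeShF J)).homology (n + 1)) :=
  haveI hq := quasiIso_augMap J hL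
  haveI := (quasiIsoAt_iff_isIso_homologyMap (augMap C J L) (n + 1)).1 (hq.quasiIsoAt _)
  (HomologicalComplex.isZero_single_obj_homology _ 0 (zPoint J) (n + 1) (Nat.succ_ne_zero n)).of_iso
    (asIso (HomologicalComplex.homologyMap (augMap C J L) (n + 1)))

theorem nonempty_homology_zero_free {L : SPre C} (hL : LocLift J (toOne L)) :
    Nonempty (((alternatingFaceMapComplex (Sheaf J AddCommGrpCat.{u})).obj (L ⋙ freeShF J)).homology 0 ≅ zPoint J) :=
  haveI hq := quasiIso_augMap J hL
  haveI := (quasiIsoAt_iff_isIso_homologyMap (augMap C J L) 0).1 (hq.quasiIsoAt _)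
  ⟨asIso (HomologicalComplex.homologyMap (augMap C J L) 0) ≪≫ HomologicalComplex.singleObjHomologySelfIso _ 0 _⟩

end Groth.Agent.Hypercov
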