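import Mathlib.AlgebraicTopology.SimplicialObject.Basic
import Mathlib.AlgebraicTopology.SimplicialObject.Coskeletal
import Mathlib.AlgebraicTopology.SimplicialSet.StdSimplex
import Mathlib.CategoryTheory.Adjunction.Whiskering

/-! # Boundary families, truncated simplices and coskeleta -/

set_option autoImplicit false
set_option linter.all false
set_option backward.isDefEq.respectTransparency false
set_option backward.defeqAttrib.useBackward true

universe v u w

open CategoryTheory Opposite Simplicial SimplexCategory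

namespace Groth.Agent.Hypercov

variable {X : SSet.{u}}

/-- a family of `k`-simplices forming the boundary of a `(k+1)`-simplex -/
def IsBdry {k : ℕ} (y : Fin (k + 2) → X _⦋k⦌) : Prop :=
  ∀ ⦃p : SimplexCategory⦄ (a b : p ⟶ ⦋k⦌) (i j : Fin (k + 2)), a ≫ δ i = b ≫ δ j →
    X.map a.op (y i) = X.map b.op (y j)

lemma δ_mono_cancel {k : ℕ} {p : SimplexCategory} {a b : p ⟶ ⦋k⦌} {i : Fin (k + 2)}
    (h : a ≫ SimplexCategory.δ i = b ≫ SimplexCategory.δ i) : a = b :=
  (cancel_mono (SimplexCategory.δ i)).1 h

lemma isBdry_zero (y : Fin 2 → X _⦋0⦌) : IsBdry (k := 0) y := by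
  intro p a b i j h
  by_cases hij : i = j
  · subst hij; rw [δ_mono_cancel h]
  · exfalso
    have h0 := congrArg (fun f => f.toOrderHom 0) h
    have ha : a.toOrderHom 0 = 0 := Subsingleton.elim (α := Fin 1) _ _
    have hb : b.toOrderHom 0 = 0 := Subsingleton.elim (α := Fin 1) _ _
    change i.succAbove (a.toOrderHom 0) = j.succAbove (b.toOrderHom 0) at h0
    rw [ha, hb] at h0
    fin_cases i <;> fin_cases j <;> simp_all (config := { decide := true })

lemma isBdry_succ {k : ℕ} (y : Fin (k + 3) → X _⦋k + 1⦌)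
    (h : ∀ (i j : Fin (k + 2)), i ≤ j → X.δ i (y j.succ) = X.δ j (y i.castSucc)) :
    IsBdry (k := k + 1) y := by
  have key : ∀ ⦃p : SimplexCategory⦄ (a b : p ⟶ ⦋k + 1⦌) (i j : Fin (k + 2)), i ≤ j →
      a ≫ δ i.castSucc = b ≫ δ j.succ → X.map a.op (y i.castSucc) = X.map b.op (y j.succ) := by
    intro p a b i j hij e
    obtain ⟨r, hr⟩ : ∃ r : p ⟶ ⦋k⦌, b = r ≫ δ i := by
      refine eq_comp_δ_of_not_surjective' b i fun x hx => ?_
      have hc := congrArg (fun f => f.toOrderHom x) e
      change i.castSucc.succAbove (a.toOrderHom x) = j.succ.succAbove (b.toOrderHom x) at hc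
      rw [hx, Fin.succAbove_of_castSucc_lt j.succ i (by
        simp only [Fin.lt_def, Fin.le_def, Fin.val_castSucc, Fin.val_succ] at hij ⊢; omega)] at hc
      exact Fin.succAbove_ne i.castSucc (a.toOrderHom x) hc
    have ha : a = r ≫ δ j := δ_mono_cancel (i := i.castSucc)
      (e.trans (by rw [hr, Category.assoc, Category.assoc, δ_comp_δ hij]))
    rw [hr, ha, op_comp, op_comp, Functor.map_comp_apply, Functor.map_comp_apply]
    exact congrArg (X.map r.op) (h i j hij).symm
  intro p a b i j e
  rcases lt_trichotomy i j with hij | rfl | hij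
  · obtain ⟨i', rfl⟩ := Fin.exists_castSucc_eq.2 (Fin.ne_last_of_lt hij)
    obtain ⟨j', rfl⟩ := Fin.exists_succ_eq.2 (show j ≠ 0 by rintro rfl; exact absurd hij (Fin.not_lt_zero _))
    exact key a b i' j' (by simp only [Fin.lt_def, Fin.le_def, Fin.val_castSucc, Fin.val_succ] at hij ⊢; omega) e
  · rw [δ_mono_cancel e]
  · obtain ⟨j', rfl⟩ := Fin.exists_castSucc_eq.2 (Fin.ne_last_of_lt hij)
    obtain ⟨i', rfl⟩ := Fin.exists_succ_eq.2 (show i ≠ 0 by rintro rfl; exact absurd hij (Fin.not_lt_zero _))
    exact (key b a j' i' (by simp only [Fin.lt_def, Fin.le_def, Fin.val_castSucc, Fin.val_succ] at hij ⊢; omega) e.symm).symm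

/-- truncated `m`-simplices -/
abbrev TrSimp (n : ℕ) (m : SimplexCategory) (X : SSet.{u}) : Type u :=
  (SimplicialObject.truncation n).obj (SSet.stdSimplex.{u}.obj m) ⟶ (SimplicialObject.truncation n).obj X

/-- the truncated simplex of a simplex -/
noncomputable def trOf (n : ℕ) {m : SimplexCategory} (x : X.obj (op m)) : TrSimp n m X :=
  (SimplicialObject.truncation n).map (SSet.yonedaEquiv.symm x)

lemma trOf_app (n : ℕ) {m : SimplexCategory} (x : X.obj (op m)) (p : (SimplexCategory.Truncated n)ᵒᵖ)
    (s : (SSet.stdSimplex.{u}.obj m).obj (op p.unop.obj)) :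
    (trOf n x).app p s = X.map (SSet.stdSimplex.objEquiv s).op x := rfl

lemma trOf_ext {n : ℕ} {m : SimplexCategory} {x y : X.obj (op m)}
    (h : ∀ ⦃p : SimplexCategory⦄, p.len ≤ n → ∀ a : p ⟶ m, X.map a.op x = X.map a.op y) :
    trOf n x = trOf n y := by
  refine NatTrans.ext (funext fun p => ConcreteCategory.hom_ext _ _ fun s => ?_)
  exact h p.unop.property _

lemma trOf_apply_eq {n : ℕ} {m : SimplexCategory} {x y : X.obj (op m)} (h : trOf n x = trOf n y)
    {p : SimplexCategory} (hp : p.len ≤ n) (a : p ⟶ m) : X.map a.op x = X.map a.op y :=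
  ConcreteCategory.congr_hom (NatTrans.congr_app h (op ⟨p, hp⟩)) (SSet.stdSimplex.objEquiv.symm a)

lemma trOf_app_symm (n : ℕ) {m : SimplexCategory} (x : X.obj (op m)) {p : SimplexCategory} (hp : p.len ≤ n)
    (a : p ⟶ m) : (trOf n x).app (op ⟨p, hp⟩) (SSet.stdSimplex.objEquiv.symm a) = X.map a.op x := rfl

lemma trOf_natural {Y : SSet.{u}} (φ : X ⟶ Y) (n : ℕ) {m : SimplexCategory} (x : X.obj (op m)) :
    trOf n x ≫ (SimplicialObject.truncation n).map φ = trOf n (φ.app (op m) x) := by
  refine NatTrans.ext (funext fun p => ConcreteCategory.hom_ext _ _ fun s => ?_)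
  exact NatTrans.naturality_apply φ _ x

lemma not_surjective_of_len_le {k : ℕ} {p : SimplexCategory} (hp : p.len ≤ k) (s : p ⟶ ⦋k + 1⦌) :
    ¬ Function.Surjective s.toOrderHom := fun hs => by
  rw [← SimplexCategory.epi_iff_surjective] at hs
  have := SimplexCategory.len_le_of_epi s
  simp at this
  omega

/-- the truncated simplex of a boundary family -/
noncomputable def bdryTr {n k : ℕ} (hk : n ≤ k) (y : Fin (k + 2) → X _⦋k⦌) (hy : IsBdry y) :
    TrSimp n ⦋k + 1⦌ X where
  app p := ↾fun s =>
    have h := eq_comp_δ_of_not_surjective _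
      (not_surjective_of_len_le (p.unop.property.trans hk) (SSet.stdSimplex.objEquiv s))
    X.map h.choose_spec.choose.op (y h.choose)
  naturality p q f := ConcreteCategory.hom_ext _ _ fun s => by
    have hs := eq_comp_δ_of_not_surjective _
      (not_surjective_of_len_le (p.unop.property.trans hk) (SSet.stdSimplex.objEquiv s))
    let s' : (SSet.stdSimplex.{u}.obj ⦋k + 1⦌).obj (op q.unop.obj) :=
      (SSet.stdSimplex.obj ⦋k + 1⦌).map ((SimplexCategory.Truncated.inclusion n).map f.unop).op s
    have hs' := eq_comp_δ_of_not_surjective _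
      (not_surjective_of_len_le (q.unop.property.trans hk) (SSet.stdSimplex.objEquiv s'))
    show X.map hs'.choose_spec.choose.op (y hs'.choose) =
      X.map _ (X.map hs.choose_spec.choose.op (y hs.choose))
    rw [← Functor.map_comp_apply]
    refine hy hs'.choose_spec.choose (((SimplexCategory.Truncated.inclusion n).map f.unop) ≫ hs.choose_spec.choose) _ _ ?_
    rw [Category.assoc, ← hs'.choose_spec.choose_spec, ← hs.choose_spec.choose_spec]
    rfl

lemma bdryTr_app {n k : ℕ} (hk : n ≤ k) (y : Fin (k + 2) → X _⦋k⦌) (hy : IsBdry y)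
    {p : SimplexCategory} (hp : p.len ≤ n) (a : p ⟶ ⦋k⦌) (i : Fin (k + 2)) :
    (bdryTr hk y hy).app (op ⟨p, hp⟩) (SSet.stdSimplex.objEquiv.symm (a ≫ δ i)) = X.map a.op (y i) := by
  have h := eq_comp_δ_of_not_surjective _ (not_surjective_of_len_le (hp.trans hk) (a ≫ δ i))
  exact hy h.choose_spec.choose a _ _ h.choose_spec.choose_spec.symm

/-- faces of a simplex with prescribed truncated boundary -/
lemma δ_trOf_of_trOf_eq {n k : ℕ} (hk : n ≤ k) {y : Fin (k + 2) → X _⦋k⦌} {hy : IsBdry y}
    {l : X _⦋k + 1⦌} (h : trOf n l = bdryTr hk y hy) (i : Fin (k + 2)) :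
    trOf n (X.δ i l) = trOf n (y i) := by
  refine trOf_ext fun p hp a => ?_
  rw [← bdryTr_app hk y hy hp a i, ← h, trOf_app_symm, op_comp, Functor.map_comp_apply]
  rfl

lemma trOf_eq_bdryTr {n k : ℕ} (hk : n ≤ k) {y : Fin (k + 2) → X _⦋k⦌} (hy : IsBdry y) {w : X _⦋k + 1⦌}
    (h : ∀ i, X.δ i w = y i) : trOf n w = bdryTr hk y hy := by
  refine NatTrans.ext (funext fun p => ConcreteCategory.hom_ext _ _ fun s => ?_)
  obtain ⟨i, a, ha⟩ := eq_comp_δ_of_not_surjective _
    (not_surjective_of_len_le (p.unop.property.trans hk) (SSet.stdSimplex.objEquiv s))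
  have hs : s = SSet.stdSimplex.objEquiv.symm (a ≫ δ i) := by rw [← ha, Equiv.symm_apply_apply]
  rw [hs]
  refine Eq.trans ?_ (bdryTr_app hk y hy p.unop.property a i).symm
  refine (trOf_app_symm n w p.unop.property (a ≫ δ i)).trans ?_
  rw [op_comp, Functor.map_comp_apply, ← h i]
  rfl

lemma bdryTr_natural {Y : SSet.{u}} (φ : X ⟶ Y) {n k : ℕ} (hk : n ≤ k) {y : Fin (k + 2) → X _⦋k⦌}
    (hy : IsBdry y) {z : Fin (k + 2) → Y _⦋k⦌} (hz : IsBdry z) (h : ∀ i, φ.app _ (y i) = z i) :
    bdryTr hk y hy ≫ (SimplicialObject.truncation n).map φ = bdryTr hk z hz := by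
  refine NatTrans.ext (funext fun p => ConcreteCategory.hom_ext _ _ fun s => ?_)
  obtain ⟨i, a, ha⟩ := eq_comp_δ_of_not_surjective _
    (not_surjective_of_len_le (p.unop.property.trans hk) (SSet.stdSimplex.objEquiv s))
  have hs : s = SSet.stdSimplex.objEquiv.symm (a ≫ δ i) := by rw [← ha, Equiv.symm_apply_apply]
  rw [hs]
  refine Eq.trans ?_ (bdryTr_app hk z hz p.unop.property a i).symm
  rw [← h i, ← NatTrans.naturality_apply φ]
  exact congrArg _ (bdryTr_app hk y hy p.unop.property a i)

/-! ### truncated simplices of coskeleta, seen through points -/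

section

variable {E : Type w} [Category.{v} E] {R : E ⥤ Type u} {G : Type u ⥤ E}
variable (n : ℕ) [∀ (F : (SimplexCategory.Truncated n)ᵒᵖ ⥤ E),
    (SimplexCategory.Truncated.inclusion n).op.HasRightKanExtension F]

/-- the simplicial set of points -/
abbrev pointsOf (R : E ⥤ Type u) (Z : SimplicialObject E) : SSet.{u} := Z ⋙ R

variable (R) in
/-- a point of a coskeleton as a truncated simplex -/
noncomputable def coskTr (Z : SimplicialObject E) {m : SimplexCategory}
    (t : (pointsOf R ((SimplicialObject.cosk n).obj Z)).obj (op m)) : TrSimp n m (pointsOf R Z) :=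
  trOf n t ≫ Functor.whiskerRight ((SimplicialObject.coskAdj n).counit.app _) R

lemma coskTr_unit (Z : SimplicialObject E) {m : SimplexCategory} (x : (pointsOf R Z).obj (op m)) :
    coskTr R n Z (R.map (((SimplicialObject.coskAdj n).unit.app Z).app (op m)) x) = trOf n x := by
  unfold coskTr
  rw [show trOf n (R.map (((SimplicialObject.coskAdj n).unit.app Z).app (op m)) x) =
      trOf n x ≫ (SimplicialObject.truncation n).map
        (Functor.whiskerRight ((SimplicialObject.coskAdj n).unit.app Z) R) from
        (trOf_natural (Functor.whiskerRight ((SimplicialObject.coskAdj n).unit.app Z) R) n x).symm]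
  rw [Category.assoc]
  refine (congrArg (trOf n x ≫ ·) ?_).trans (Category.comp_id _)
  exact ((Functor.whiskerRight_comp ((SimplicialObject.truncation n).map ((SimplicialObject.coskAdj n).unit.app Z))
      ((SimplicialObject.coskAdj n).counit.app _) R).symm.trans
    (congrArg (fun t => Functor.whiskerRight t R)
      ((SimplicialObject.coskAdj n).left_triangle_components Z))).trans (Functor.whiskerRight_id R)

lemma truncation_map_comp_counit (Z : SimplicialObject E) {S : SSet.{u}} {T : SimplicialObject E} (η : S ⟶ T ⋙ R)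
    (b : (SimplicialObject.truncation n).obj T ⟶ (SimplicialObject.truncation n).obj Z) :
    (SimplicialObject.truncation n).map
        (η ≫ Functor.whiskerRight ((SimplicialObject.coskAdj n).homEquiv T ((SimplicialObject.truncation n).obj Z) b) R) ≫
      Functor.whiskerRight ((SimplicialObject.coskAdj n).counit.app ((SimplicialObject.truncation n).obj Z)) R =
    (SimplicialObject.truncation n).map η ≫ Functor.whiskerRight b R := by
  have h := congrArg (fun t => Functor.whiskerRight t R)
    (((SimplicialObject.coskAdj n).homEquiv_counit T ((SimplicialObject.truncation n).obj Z)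
      ((SimplicialObject.coskAdj n).homEquiv T ((SimplicialObject.truncation n).obj Z) b)).symm.trans
      (Equiv.symm_apply_apply _ b))
  simp only [Functor.whiskerRight_comp] at h
  rw [Functor.map_comp, Category.assoc]
  exact congrArg ((SimplicialObject.truncation n).map η ≫ ·) h

lemma coskTr_bijective (adj : G ⊣ R) (Z : SimplicialObject E) (m : SimplexCategory) :
    Function.Bijective (coskTr R n Z (m := m)) := by
  let S : SSet.{u} := SSet.stdSimplex.obj m
  let Φ : TrSimp n m (pointsOf R Z) ≃ (pointsOf R ((SimplicialObject.cosk n).obj Z)).obj (op m) :=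
    (((Adjunction.whiskerRight _ adj).homEquiv ((SimplicialObject.truncation n).obj S)
      ((SimplicialObject.truncation n).obj Z)).symm.trans
      (((SimplicialObject.coskAdj n).homEquiv (S ⋙ G) ((SimplicialObject.truncation n).obj Z)).trans
        ((Adjunction.whiskerRight _ adj).homEquiv S _))).trans SSet.yonedaEquiv
  have key : ∀ τ, coskTr R n Z (Φ τ) = τ := by
    intro τ
    obtain ⟨b, rfl⟩ := ((Adjunction.whiskerRight _ adj).homEquiv ((SimplicialObject.truncation n).obj S)
      ((SimplicialObject.truncation n).obj Z)).surjective τ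
    simp only [Φ, Equiv.trans_apply]
    unfold coskTr trOf
    erw [Equiv.symm_apply_apply, Equiv.symm_apply_apply]
    exact truncation_map_comp_counit n Z (T := S ⋙ G) _ b
  refine ⟨fun t t' h => ?_, fun τ => ⟨Φ τ, key τ⟩⟩
  obtain ⟨τ, rfl⟩ := Φ.surjective t
  obtain ⟨τ', rfl⟩ := Φ.surjective t'
  rw [key, key] at h
  rw [h]

/-- for an `n`-coskeletal object the truncated simplices are the simplices -/
lemma trOf_bijective (adj : G ⊣ R) (Z : SimplicialObject E) [IsIso ((SimplicialObject.coskAdj n).unit.app Z)]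
    (m : SimplexCategory) : Function.Bijective (trOf (X := pointsOf R Z) n (m := m)) := by
  have : trOf (X := pointsOf R Z) n (m := m) =
      coskTr R n Z ∘ R.map (((SimplicialObject.coskAdj n).unit.app Z).app (op m)) :=
    funext fun x => (coskTr_unit n Z x).symm
  rw [this]
  exact (coskTr_bijective n adj Z m).comp ((isIso_iff_bijective _).1 inferInstance)

end

end Groth.Agent.Hypercov
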