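import Groth.Prelude.Def_Hyper2
import Mathlib.AlgebraicTopology.SimplicialObject.ChainHomotopy
import Mathlib.CategoryTheory.Preadditive.Opposite

/-! # Homotopic maps induce the same map on Čech cohomology -/

set_option autoImplicit false
set_option linter.all false
set_option backward.isDefEq.respectTransparency false
set_option backward.defeqAttrib.useBackward true

universe u

open CategoryTheory CategoryTheory.Limits Opposite Simplicial AlgebraicTopology

namespace Groth.Agent.Hypercov

variable {C : Type u} [SmallCategory C] {X : C} (P : Cᵒᵖ ⥤ AddCommGrpCat.{u})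

/-- values, contravariantly -/
noncomputable abbrev valOp : FormalCoproduct.{u} (Over X) ⥤ (AddCommGrpCat.{u})ᵒᵖ :=
  ((FormalCoproduct.evalOp.{u} (Over X) AddCommGrpCat.{u}).obj ((Over.forget X).op ⋙ P)).rightOp

lemma cech_d (K : SimplicialObject (FormalCoproduct.{u} (Over X))) (n : ℕ) :
    (Hyper.cechCx X K P).d n (n + 1) =
      (((alternatingFaceMapComplex (AddCommGrpCat.{u})ᵒᵖ).obj (((SimplicialObject.whiskering _ _).obj (valOp P)).obj K)).d (n + 1) n).unop := by
  rw [alternatingFaceMapComplex_obj_d]
  show (AlternatingCofaceMapComplex.obj ((FormalCoproduct.cosimplicialObjectFunctor K).obj ((Over.forget X).op ⋙ P))).d n (n + 1) = _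
  dsimp [AlternatingCofaceMapComplex.obj]
  refine ((CochainComplex.of_d _ _ n).trans (AlternatingCofaceMapComplex.d_eq_unop_d _ n)).trans ?_
  rfl

theorem cechHMap_eq_of_homotopy {K L : SimplicialObject (FormalCoproduct.{u} (Over X))} (a b : L ⟶ K)
    (H : SimplicialObject.Homotopy a b) (p : ℕ) : Hyper.cechHMap X a P p = Hyper.cechHMap X b P p := by
  let G := valOp (X := X) P
  let h := (H.whiskerRight G).toChainHomotopy
  let hh : Homotopy (Hyper.cechMap X a P) (Hyper.cechMap X b P) :=
    { hom := fun i j => (h.hom j i).unop
      zero := fun i j hij => by rw [h.zero j i hij]; rfl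
      comm := fun n => by
        have hc := congrArg Quiver.Hom.unop (h.comm n)
        cases n with
        | zero =>
          rw [Homotopy.prevD_chainComplex, Homotopy.dNext_zero_chainComplex, zero_add, unop_add, unop_comp] at hc
          rw [Homotopy.dNext_cochainComplex, Homotopy.prevD_zero_cochainComplex, add_zero, cech_d]
          exact hc
        | succ n =>
          rw [Homotopy.prevD_chainComplex, Homotopy.dNext_succ_chainComplex, unop_add, unop_add, unop_comp, unop_comp] at hc
          rw [Homotopy.dNext_cochainComplex, Homotopy.prevD_succ_cochainComplex, cech_d, cech_d, add_comm (_ ≫ _) (_ ≫ _)]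
          exact hc }
  exact congrArg AddCommGrpCat.Hom.hom (hh.homologyMap_eq p)

end Groth.Agent.Hypercov
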