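import Mathlib.AlgebraicTopology.CechNerve
import Mathlib.AlgebraicTopology.SimplicialObject.Coskeletal

/-! # The Čech nerve is 0-coskeletal, hence coskeletal in every degree -/

set_option autoImplicit false
set_option linter.all false
set_option backward.isDefEq.respectTransparency false
set_option backward.defeqAttrib.useBackward true

universe v u

open CategoryTheory CategoryTheory.Limits Opposite Simplicial

namespace Groth.Agent.Hypercov

variable {E : Type u} [Category.{v} E] [HasFiniteProducts E] (A : E)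

lemma cechNerve_map_π {m m' : SimplexCategoryᵒᵖ} (f : m ⟶ m') (i : Fin (m'.unop.len + 1)) :
    (cechNerveTerminalFrom A).map f ≫ Pi.π (fun _ : Fin (m'.unop.len + 1) => A) i =
      Pi.π (fun _ : Fin (m.unop.len + 1) => A) (f.unop.toOrderHom i) := by
  simp [cechNerveTerminalFrom]

theorem isCoskeletal_cechNerveTerminalFrom (n : ℕ) : SimplicialObject.IsCoskeletal (cechNerveTerminalFrom A) n := by
  let ι := (SimplexCategory.Truncated.inclusion n).op
  let z : (SimplexCategory.Truncated n)ᵒᵖ := op ⟨⦋0⦌, Nat.zero_le n⟩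
  refine ⟨⟨⟨IsTerminal.ofUniqueHom (fun Y => CostructuredArrow.homMk
    { app := fun m => Pi.lift fun i : Fin (m.unop.len + 1) =>
        Y.left.map (SimplexCategory.const ⦋0⦌ m.unop i).op ≫ Y.hom.app z ≫ Pi.π (fun _ : Fin (0 + 1) => A) 0
      naturality := fun m m' f => Pi.hom_ext _ _ fun i => by
        refine (Category.assoc _ _ _).trans (Eq.trans ?_ (Category.assoc _ _ _).symm)
        erw [cechNerve_map_π]
        erw [Pi.lift_π, Pi.lift_π]
        rw [← Category.assoc]
        congr 1
        rw [← Functor.map_comp]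
        congr 1
        } ?_) fun Y g => ?_⟩⟩⟩
  · refine NatTrans.ext (funext fun p => Pi.hom_ext _ _ fun i => ?_)
    let c : p ⟶ z := Quiver.Hom.op (ObjectProperty.homMk (SimplexCategory.const ⦋0⦌ p.unop.obj i))
    have hn := Y.hom.naturality c
    show (_ ≫ 𝟙 _) ≫ Pi.π (fun _ : Fin (p.unop.obj.len + 1) => A) i = _
    rw [Category.comp_id]
    refine (Pi.lift_π _ _).trans ?_
    refine (Category.assoc _ _ _).symm.trans ((congrArg (· ≫ Pi.π (fun _ : Fin (0 + 1) => A) 0) hn).trans ?_)
    refine (Category.assoc _ _ _).trans (congrArg (Y.hom.app p ≫ ·) ?_)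
    exact cechNerve_map_π A (SimplexCategory.const ⦋0⦌ p.unop.obj i).op 0
  · refine CostructuredArrow.hom_ext _ _ (NatTrans.ext (funext fun m => Pi.hom_ext _ _ fun i => ?_))
    simp only [CostructuredArrow.homMk_left, Pi.lift_π]
    have hw : g.left.app (ι.obj z) ≫ 𝟙 _ = Y.hom.app z := NatTrans.congr_app (CostructuredArrow.w g) z
    rw [← hw, Category.comp_id]
    refine Eq.trans (congrArg (g.left.app m ≫ ·) ?_) ((reassoc_of% (g.left.naturality (SimplexCategory.const ⦋0⦌ m.unop i).op)) _).symm
    exact (cechNerve_map_π A (SimplexCategory.const ⦋0⦌ m.unop i).op 0).symm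

end Groth.Agent.Hypercov
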