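import Groth.Agent.Hypercov.Boundary
import Mathlib.AlgebraicTopology.AlternatingFaceMapComplex
import Mathlib.Algebra.Category.Grp.Adjunctions
import Mathlib.GroupTheory.FreeAbelianGroup
import Mathlib.Algebra.BigOperators.Group.Finset.Lemmas

/-! # Elementary chains of simplicial sets -/

set_option autoImplicit false
set_option linter.all false
set_option backward.isDefEq.respectTransparency false
set_option backward.defeqAttrib.useBackward true

universe u

open CategoryTheory Opposite Simplicial SimplexCategory AlgebraicTopology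

namespace Groth.Agent.Hypercov

/-- chains -/
abbrev Ch (X : SSet.{u}) (k : ℕ) : Type u := FreeAbelianGroup (X _⦋k⦌)

/-- the differential -/
noncomputable def dch (X : SSet.{u}) (k : ℕ) : Ch X (k + 1) →+ Ch X k :=
  ∑ i : Fin (k + 2), ((-1 : ℤ) ^ (i : ℕ)) • FreeAbelianGroup.map (X.δ i)

lemma dch_apply (X : SSet.{u}) (k : ℕ) (z : Ch X (k + 1)) :
    dch X k z = ∑ i : Fin (k + 2), ((-1 : ℤ) ^ (i : ℕ)) • FreeAbelianGroup.map (X.δ i) z := by
  simp [dch, AddMonoidHom.finsetSum_apply]

lemma dch_of (X : SSet.{u}) (k : ℕ) (x : X _⦋k + 1⦌) :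
    dch X k (FreeAbelianGroup.of x) =
      ∑ i : Fin (k + 2), ((-1 : ℤ) ^ (i : ℕ)) • FreeAbelianGroup.of (X.δ i x) := by
  simp [dch_apply]

lemma sum_hom_apply {A B : AddCommGrpCat.{u}} {ι : Type} (s : Finset ι) (g : ι → (A ⟶ B)) (x : A) :
    (∑ i ∈ s, g i).hom x = ∑ i ∈ s, (g i).hom x :=
  map_sum ((AddMonoidHom.eval x).comp (AddCommGrpCat.homAddEquiv (M := A) (N := B)).toAddMonoidHom) g s

lemma dch_eq_objD (X : SSet.{u}) (k : ℕ) :
    dch X k = (AlternatingFaceMapComplex.objD
      ((Functor.whiskeringRight _ _ _).obj AddCommGrpCat.free.{u} |>.obj X) k).hom := by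
  ext x
  rw [dch_of]
  unfold AlternatingFaceMapComplex.objD
  erw [sum_hom_apply]
  refine Finset.sum_congr rfl fun i _ => ?_
  exact congrArg (fun t => ((-1 : ℤ) ^ (i : ℕ)) • t) (FreeAbelianGroup.map_of_apply x).symm

lemma dch_dch (X : SSet.{u}) (k : ℕ) (z : Ch X (k + 2)) : dch X k (dch X (k + 1) z) = 0 := by
  rw [dch_eq_objD, dch_eq_objD]
  exact ConcreteCategory.congr_hom (AlternatingFaceMapComplex.d_squared
    ((Functor.whiskeringRight _ _ _).obj AddCommGrpCat.free.{u} |>.obj X) k) z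

/-- functoriality of chains -/
noncomputable def chMap {X Y : SSet.{u}} (φ : X ⟶ Y) (k : ℕ) : Ch X k →+ Ch Y k :=
  FreeAbelianGroup.map (φ.app (op ⦋k⦌))

lemma chMap_of {X Y : SSet.{u}} (φ : X ⟶ Y) (k : ℕ) (x : X _⦋k⦌) :
    chMap φ k (FreeAbelianGroup.of x) = FreeAbelianGroup.of (φ.app (op ⦋k⦌) x) :=
  FreeAbelianGroup.map_of_apply x

lemma chMap_dch {X Y : SSet.{u}} (φ : X ⟶ Y) (k : ℕ) (z : Ch X (k + 1)) :
    chMap φ k (dch X k z) = dch Y k (chMap φ (k + 1) z) := by
  have : (chMap φ k).comp (dch X k) = (dch Y k).comp (chMap φ (k + 1)) := by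
    ext x
    simp only [AddMonoidHom.comp_apply, dch_of, map_sum, map_zsmul, chMap_of]
    refine Finset.sum_congr rfl fun i _ => ?_
    exact congrArg (fun t => ((-1 : ℤ) ^ (i : ℕ)) • FreeAbelianGroup.of t) (NatTrans.naturality_apply φ _ x)
  exact DFunLike.congr_fun this z

lemma chMap_comp {X Y Z : SSet.{u}} (φ : X ⟶ Y) (ψ : Y ⟶ Z) (k : ℕ) (z : Ch X k) :
    chMap (φ ≫ ψ) k z = chMap ψ k (chMap φ k z) := by
  have : chMap (φ ≫ ψ) k = (chMap ψ k).comp (chMap φ k) := by ext x; simp [chMap_of]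
  exact DFunLike.congr_fun this z

lemma chMap_id {X : SSet.{u}} (k : ℕ) (z : Ch X k) : chMap (𝟙 X) k z = z := by
  have : chMap (𝟙 X) k = AddMonoidHom.id _ := by ext x; simp [chMap_of]
  exact DFunLike.congr_fun this z

lemma freeMap_injective {α β : Type u} (f : α → β) (hf : Function.Injective f) :
    Function.Injective (FreeAbelianGroup.map f) := by
  intro a b h
  rcases isEmpty_or_nonempty α with h0 | h0
  · exact Subsingleton.elim a b
  · have e : ∀ z : FreeAbelianGroup α, FreeAbelianGroup.map (Function.invFun f) (FreeAbelianGroup.map f z) = z := by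
      intro z
      have : (FreeAbelianGroup.map (Function.invFun f)).comp (FreeAbelianGroup.map f) = AddMonoidHom.id _ := by
        ext x; simp [Function.leftInverse_invFun hf x]
      exact DFunLike.congr_fun this z
    rw [← e a, ← e b, h]

lemma exists_finset {α : Type u} (z : FreeAbelianGroup α) :
    ∃ S : Finset α, z ∈ AddSubgroup.closure (FreeAbelianGroup.of '' (S : Set α)) := by
  classical
  induction z using FreeAbelianGroup.induction_on with
  | zero => exact ⟨∅, zero_mem _⟩
  | of x => exact ⟨{x}, AddSubgroup.subset_closure ⟨x, Finset.mem_singleton_self x, rfl⟩⟩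
  | neg x h => obtain ⟨S, hS⟩ := h; exact ⟨S, neg_mem hS⟩
  | add x y hx hy =>
    obtain ⟨S, hS⟩ := hx
    obtain ⟨T, hT⟩ := hy
    refine ⟨S ∪ T, add_mem (AddSubgroup.closure_mono ?_ hS) (AddSubgroup.closure_mono ?_ hT)⟩ <;>
      exact Set.image_mono (by simp)

lemma eq_of_eq_on_of {α : Type u} {M : Type*} [AddCommGroup M] {S : Set α} {f g : FreeAbelianGroup α →+ M}
    (h : ∀ x ∈ S, f (FreeAbelianGroup.of x) = g (FreeAbelianGroup.of x)) {z : FreeAbelianGroup α}
    (hz : z ∈ AddSubgroup.closure (FreeAbelianGroup.of '' S)) : f z = g z := by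
  induction hz using AddSubgroup.closure_induction with
  | mem x hx => obtain ⟨a, ha, rfl⟩ := hx; exact h a ha
  | zero => simp
  | add x y _ _ hx hy => simp [hx, hy]
  | neg x _ hx => simp [hx]

/-- the augmentation -/
noncomputable def aug {α : Type u} : FreeAbelianGroup α →+ ℤ := FreeAbelianGroup.lift fun _ => 1

end Groth.Agent.Hypercov
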