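import Groth.Agent.Hypercov.Chains
import Mathlib.CategoryTheory.Sites.LocallySurjective

/-! # Local filling and the cone lemma -/

set_option autoImplicit false
set_option linter.all false
set_option backward.isDefEq.respectTransparency false
set_option backward.defeqAttrib.useBackward true

universe u

open CategoryTheory Opposite Simplicial SimplexCategory

namespace Groth.Agent.Hypercov

/-- degreewise product of simplicial sets -/
@[reducible] def prodS (Y B : SSet.{u}) : SSet.{u} :=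
  ({ obj := fun m => Y.obj m × B.obj m
     map := fun a => ↾fun x => (Y.map a x.1, B.map a x.2)
     map_id := fun m => by
       ext x
       · exact Functor.map_id_apply Y m x.1
       · exact Functor.map_id_apply B m x.2
     map_comp := fun a b => by
       ext x
       · exact Functor.map_comp_apply Y a b x.1
       · exact Functor.map_comp_apply B a b x.2 } :
    SimplexCategoryᵒᵖ ⥤ Type u)

lemma prodS_δ {Y B : SSet.{u}} {k : ℕ} (i : Fin (k + 2)) (x : (prodS Y B) _⦋k + 1⦌) :
    (prodS Y B).δ i x = (Y.δ i x.1, B.δ i x.2) := rfl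

/-- functoriality of the product -/
def prodMap {Y Y' B B' : SSet.{u}} (φ : Y ⟶ Y') (ψ : B ⟶ B') : prodS Y B ⟶ prodS Y' B' where
  app m := ↾fun x => (φ.app m x.1, ψ.app m x.2)
  naturality m m' a := by
    ext x
    · exact NatTrans.naturality_apply φ a x.1
    · exact NatTrans.naturality_apply ψ a x.2

variable {C : Type u} [SmallCategory C] (J : GrothendieckTopology C)

variable (C) in
/-- simplicial presheaves -/
abbrev SPre : Type (u + 1) := SimplicialObject (Cᵒᵖ ⥤ Type u)

/-- evaluation -/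
abbrev pt (U : C) : (Cᵒᵖ ⥤ Type u) ⥤ Type u := (evaluation Cᵒᵖ (Type u)).obj (op U)

/-- sections of a simplicial presheaf -/
abbrev ev (X : SPre C) (U : C) : SSet.{u} := pointsOf (pt U) X

/-- restriction -/
def res (X : SPre C) {U V : C} (g : V ⟶ U) : ev X U ⟶ ev X V :=
  Functor.whiskerLeft X ((evaluation Cᵒᵖ (Type u)).map g.op)

lemma res_comp_apply (X : SPre C) {U V W : C} (g : V ⟶ U) (h : W ⟶ V) {m : SimplexCategoryᵒᵖ}
    (x : (ev X U).obj m) : (res X (h ≫ g)).app m x = (res X h).app m ((res X g).app m x) :=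
  Functor.map_comp_apply (X.obj m) g.op h.op x

lemma res_id_apply (X : SPre C) {U : C} {m : SimplexCategoryᵒᵖ} (x : (ev X U).obj m) :
    (res X (𝟙 U)).app m x = x :=
  Functor.map_id_apply (X.obj m) (op U) x

/-- sections of a morphism -/
abbrev evMap {L K : SPre C} (f : L ⟶ K) (U : C) : ev L U ⟶ ev K U := Functor.whiskerRight f (pt U)

lemma evMap_res {L K : SPre C} (f : L ⟶ K) {U V : C} (g : V ⟶ U) {m : SimplexCategoryᵒᵖ}
    (x : (ev L U).obj m) :
    (evMap f V).app m ((res L g).app m x) = (res K g).app m ((evMap f U).app m x) :=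
  NatTrans.naturality_apply (f.app m) g.op x

lemma res_δ (X : SPre C) {U V : C} (g : V ⟶ U) {k : ℕ} (i : Fin (k + 2)) (x : (ev X U) _⦋k + 1⦌) :
    (res X g).app (op ⦋k⦌) ((ev X U).δ i x) = (ev X V).δ i ((res X g).app (op ⦋k + 1⦌) x) :=
  NatTrans.naturality_apply (res X g) _ x

variable {L K : SPre C}

/-- the sieve of local lifts of a simplex with prescribed boundary -/
def liftSieve (f : L ⟶ K) {U : C} {k : ℕ} (w : (ev K U) _⦋k + 1⦌) (y : Fin (k + 2) → (ev L U) _⦋k⦌) : Sieve U where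
  arrows V g := ∃ l, (∀ i, (ev L V).δ i l = (res L g).app (op ⦋k⦌) (y i)) ∧
    (evMap f V).app (op ⦋k + 1⦌) l = (res K g).app (op ⦋k + 1⦌) w
  downward_closed := by
    rintro V W g ⟨l, h1, h2⟩ h
    refine ⟨(res L h).app _ l, fun i => ?_, ?_⟩
    · rw [← res_δ, h1, res_comp_apply]
    · rw [evMap_res, h2, res_comp_apply]

/-- the sieve of local lifts of a vertex -/
def liftSieve₀ (f : L ⟶ K) {U : C} (w : (ev K U) _⦋0⦌) : Sieve U where
  arrows V g := ∃ l, (evMap f V).app (op ⦋0⦌) l = (res K g).app (op ⦋0⦌) w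
  downward_closed := by
    rintro V W g ⟨l, h2⟩ h
    exact ⟨(res L h).app _ l, by rw [evMap_res, h2, res_comp_apply]⟩

/-- locally a trivial fibration -/
structure LocLift (f : L ⟶ K) : Prop where
  zero : ∀ (U : C) (w : (ev K U) _⦋0⦌), liftSieve₀ f w ∈ J U
  succ : ∀ (U : C) (k : ℕ) (w : (ev K U) _⦋k + 1⦌) (y : Fin (k + 2) → (ev L U) _⦋k⦌), IsBdry y →
    (∀ i, (evMap f U).app (op ⦋k⦌) (y i) = (ev K U).δ i w) → liftSieve f w y ∈ J U

lemma forall_finset_mem {U : C} {α : Type*} (S : Finset α) (T : α → Sieve U) (h : ∀ x ∈ S, T x ∈ J U) :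
    ∃ R ∈ J U, ∀ ⦃V : C⦄ (g : V ⟶ U), R g → ∀ x ∈ S, T x g := by
  classical
  induction S using Finset.induction with
  | empty => exact ⟨⊤, J.top_mem _, by simp⟩
  | @insert a S ha ih =>
    obtain ⟨R, hR, hRS⟩ := ih fun x hx => h x (Finset.mem_insert_of_mem hx)
    refine ⟨R ⊓ T a, J.intersection_covering hR (h a (Finset.mem_insert_self _ _)), fun V g hg x hx => ?_⟩
    rcases Finset.mem_insert.1 hx with rfl | hx
    · exact hg.2
    · exact hRS g hg.1 x hx

/-! ### the cone -/

/-- a simplicial set with a cone -/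
structure ConeData where
  B : SSet.{u}
  c : ∀ k, B _⦋k⦌ → B _⦋k + 1⦌
  b₀ : B _⦋0⦌
  δ_zero : ∀ k b, B.δ 0 (c k b) = b
  δ_one : ∀ b, B.δ 1 (c 0 b) = b₀
  δ_succ : ∀ k (i : Fin (k + 2)) b, B.δ i.succ (c (k + 1) b) = c k (B.δ i b)

namespace ConeData

variable (D : ConeData.{u}) (f : L ⟶ K) {U : C} (β : D.B ⟶ ev K U)

/-- pairs -/
abbrev Pr (L : SPre C) (V : C) : SSet.{u} := prodS (ev L V) D.B

/-- restriction of pairs -/
abbrev pres (L : SPre C) {V W : C} (h : W ⟶ V) : D.Pr L V ⟶ D.Pr L W := prodMap (res L h) (𝟙 D.B)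

/-- pairs lying over the base -/
def InFib {V : C} (g : V ⟶ U) {m : SimplexCategoryᵒᵖ} (x : (D.Pr L V).obj m) : Prop :=
  (evMap f V).app m x.1 = (res K g).app m (β.app m x.2)

variable {D f β}

lemma InFib.res {V W : C} {g : V ⟶ U} {m : SimplexCategoryᵒᵖ} {x : (D.Pr L V).obj m}
    (hx : D.InFib f β g x) (h : W ⟶ V) : D.InFib f β (h ≫ g) ((D.pres L h).app m x) := by
  show (evMap f W).app m ((Hypercov.res L h).app m x.1) = _
  rw [evMap_res, hx, res_comp_apply]
  rfl

lemma InFib.δ {V : C} {g : V ⟶ U} {k : ℕ} {x : (D.Pr L V) _⦋k + 1⦌}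
    (hx : D.InFib f β g x) (i : Fin (k + 2)) : D.InFib f β g ((D.Pr L V).δ i x) := by
  show (evMap f V).app _ ((ev L V).map _ x.1) = (Hypercov.res K g).app _ (β.app _ (D.B.map _ x.2))
  rw [NatTrans.naturality_apply (evMap f V), hx, NatTrans.naturality_apply β,
    NatTrans.naturality_apply (Hypercov.res K g)]

variable (D f β)

/-- partial cones -/
def ConeOK {V W : C} (g : V ⟶ U) (h : W ⟶ V) (v : (D.Pr L W) _⦋0⦌)
    (c : ∀ k, (D.Pr L V) _⦋k⦌ → (D.Pr L W) _⦋k + 1⦌) : ∀ k, (D.Pr L V) _⦋k⦌ → Prop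
  | 0, x => D.InFib f β (h ≫ g) (c 0 x) ∧ (c 0 x).2 = D.c 0 x.2 ∧
      (D.Pr L W).δ 0 (c 0 x) = (D.pres L h).app _ x ∧ (D.Pr L W).δ 1 (c 0 x) = v
  | k + 1, x => D.InFib f β (h ≫ g) (c (k + 1) x) ∧ (c (k + 1) x).2 = D.c (k + 1) x.2 ∧
      (D.Pr L W).δ 0 (c (k + 1) x) = (D.pres L h).app _ x ∧
      (∀ i, (D.Pr L W).δ i.succ (c (k + 1) x) = c k ((D.Pr L V).δ i x)) ∧
      ∀ i, ConeOK g h v c k ((D.Pr L V).δ i x)

variable {D f β}

lemma ConeOK.first {V W : C} {g : V ⟶ U} {h : W ⟶ V} {v : (D.Pr L W) _⦋0⦌}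
    {c : ∀ k, (D.Pr L V) _⦋k⦌ → (D.Pr L W) _⦋k + 1⦌} {k : ℕ} {x : (D.Pr L V) _⦋k⦌}
    (hc : D.ConeOK f β g h v c k x) : D.InFib f β (h ≫ g) (c k x) ∧ (c k x).2 = D.c k x.2 ∧
      (D.Pr L W).δ 0 (c k x) = (D.pres L h).app _ x := by
  cases k with
  | zero => exact ⟨hc.1, hc.2.1, hc.2.2.1⟩
  | succ k => exact ⟨hc.1, hc.2.1, hc.2.2.1⟩

lemma ConeOK.congr {V W : C} {g : V ⟶ U} {h : W ⟶ V} {v : (D.Pr L W) _⦋0⦌}
    {c c' : ∀ k, (D.Pr L V) _⦋k⦌ → (D.Pr L W) _⦋k + 1⦌} :
    ∀ {k : ℕ} {x : (D.Pr L V) _⦋k⦌}, (∀ j, j ≤ k → c' j = c j) → D.ConeOK f β g h v c k x →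
      D.ConeOK f β g h v c' k x := by
  intro k
  induction k with
  | zero => intro x e hx; unfold ConeOK at hx ⊢; rw [e 0 le_rfl]; exact hx
  | succ k ih =>
    intro x e hx
    unfold ConeOK at hx ⊢
    rw [e (k + 1) le_rfl, e k (Nat.le_succ k)]
    exact ⟨hx.1, hx.2.1, hx.2.2.1, hx.2.2.2.1, fun i => ih (fun j hj => e j (hj.trans (Nat.le_succ k))) (hx.2.2.2.2 i)⟩

lemma ConeOK.res {V W W' : C} {g : V ⟶ U} {h : W ⟶ V} {v : (D.Pr L W) _⦋0⦌}
    {c : ∀ k, (D.Pr L V) _⦋k⦌ → (D.Pr L W) _⦋k + 1⦌} (h' : W' ⟶ W) :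
    ∀ {k : ℕ} {x : (D.Pr L V) _⦋k⦌}, D.ConeOK f β g h v c k x →
      D.ConeOK f β g (h' ≫ h) ((D.pres L h').app _ v) (fun j y => (D.pres L h').app _ (c j y)) k x := by
  intro k
  induction k with
  | zero =>
    rintro x ⟨h1, h2, h3, h4⟩
    refine ⟨by rw [Category.assoc]; exact h1.res h', h2, ?_, ?_⟩
    · exact (NatTrans.naturality_apply (D.pres L h') _ _).symm.trans ((congrArg _ h3).trans
        (Prod.ext (res_comp_apply L h h' x.1).symm rfl))
    · exact (NatTrans.naturality_apply (D.pres L h') _ _).symm.trans (congrArg _ h4)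
  | succ k ih =>
    rintro x ⟨h1, h2, h3, h4, h5⟩
    refine ⟨by rw [Category.assoc]; exact h1.res h', h2, ?_, fun i => ?_, fun i => ih (h5 i)⟩
    · exact (NatTrans.naturality_apply (D.pres L h') _ _).symm.trans ((congrArg _ h3).trans
        (Prod.ext (res_comp_apply L h h' x.1).symm rfl))
    · exact (NatTrans.naturality_apply (D.pres L h') _ _).symm.trans (congrArg _ (h4 i))

variable (D f β)

/-- local existence of cones -/
def coneSieve {V : C} (g : V ⟶ U) (k : ℕ) (S : Finset ((D.Pr L V) _⦋k⦌)) : Sieve V where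
  arrows W h := ∃ v c, D.InFib f β (h ≫ g) v ∧ v.2 = D.b₀ ∧ ∀ x ∈ S, D.ConeOK f β g h v c k x
  downward_closed := by
    rintro W W' h ⟨v, c, h1, h2, h3⟩ h'
    exact ⟨_, _, by rw [Category.assoc]; exact h1.res h', h2, fun x hx => (h3 x hx).res h'⟩

variable {J D f β}

theorem coneSieve_mem (hf : LocLift J f) {V : C} (g : V ⟶ U) : ∀ (k : ℕ) (S : Finset ((D.Pr L V) _⦋k⦌)),
    (∀ x ∈ S, D.InFib f β g x) → D.coneSieve f β g k S ∈ J V := by
  classical
  intro k
  induction k with
  | zero =>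
    intro S hS
    refine J.transitive (hf.zero V ((Hypercov.res K g).app _ (β.app _ D.b₀))) _ ?_
    rintro W h ⟨l, hl⟩
    let v : (D.Pr L W) _⦋0⦌ := (l, D.b₀)
    have hv : D.InFib f β (h ≫ g) v := hl.trans (res_comp_apply K g h _).symm
    let y : ∀ x : (D.Pr L V) _⦋0⦌, Fin 2 → (ev L W) _⦋0⦌ := fun x => ![(Hypercov.res L h).app _ x.1, l]
    obtain ⟨R, hR, hRS⟩ := forall_finset_mem J S
      (fun x => liftSieve f ((Hypercov.res K (h ≫ g)).app _ (β.app _ (D.c 0 x.2))) (y x)) fun x hx => by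
        refine hf.succ W 0 _ (y x) (isBdry_zero _) fun i => ?_
        rw [← res_δ]
        fin_cases i
        · show (evMap f W).app _ ((Hypercov.res L h).app _ x.1) = _
          rw [evMap_res, hS x hx, res_comp_apply]
          exact congrArg (fun t => (Hypercov.res K h).app _ ((Hypercov.res K g).app _ t))
            ((congrArg _ (D.δ_zero 0 x.2).symm).trans (NatTrans.naturality_apply β _ _))
        · exact hv.trans (congrArg ((Hypercov.res K (h ≫ g)).app _)
            ((congrArg _ (D.δ_one x.2).symm).trans (NatTrans.naturality_apply β _ _)))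
    refine J.superset_covering ?_ hR
    intro W' h' hh'
    have := hRS h' hh'
    choose! l' hl' hl'' using this
    let c : ∀ k, (D.Pr L V) _⦋k⦌ → (D.Pr L W') _⦋k + 1⦌
      | 0, x => if hx : x ∈ S then (l' x hx, D.c 0 x.2) else
          (D.pres L (h' ≫ h)).app _ ((D.Pr L V).map (SimplexCategory.σ 0).op x)
      | k + 1, x => (D.pres L (h' ≫ h)).app _ ((D.Pr L V).map (SimplexCategory.σ 0).op x)
    refine ⟨(D.pres L h').app _ v, c, by rw [Category.assoc]; exact hv.res h', rfl, fun x hx => ?_⟩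
    unfold ConeOK
    simp only [c, dif_pos hx]
    refine ⟨?_, trivial, Prod.ext ?_ (D.δ_zero 0 x.2), Prod.ext ?_ (D.δ_one x.2)⟩
    · refine (hl'' x hx).trans ?_
      rw [Category.assoc, res_comp_apply K (h ≫ g) h']
    · exact (hl' x hx 0).trans (res_comp_apply L h h' x.1).symm
    · exact hl' x hx 1
  | succ k ih =>
    intro S hS
    refine J.transitive (ih (S.biUnion fun x => Finset.univ.image fun i => (D.Pr L V).δ i x) (by
      intro y hy
      simp only [Finset.mem_biUnion, Finset.mem_image, Finset.mem_univ, true_and] at hy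
      obtain ⟨x, hx, i, rfl⟩ := hy
      exact (hS x hx).δ i)) _ ?_
    rintro W h ⟨v, c, hv, hv', hc⟩
    have hc' : ∀ x ∈ S, ∀ i, D.ConeOK f β g h v c k ((D.Pr L V).δ i x) := fun x hx i =>
      hc _ (Finset.mem_biUnion.2 ⟨x, hx, Finset.mem_image.2 ⟨i, Finset.mem_univ _, rfl⟩⟩)
    let y : ∀ x : (D.Pr L V) _⦋k + 1⦌, Fin (k + 3) → (ev L W) _⦋k + 1⦌ := fun x =>
      Fin.cases ((Hypercov.res L h).app _ x.1) (fun i => (c k ((D.Pr L V).δ i x)).1)
    have hb : ∀ x ∈ S, IsBdry (k := k + 1) (y x) := by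
      intro x hx
      refine isBdry_succ _ fun i j hij => ?_
      cases i using Fin.cases with
      | zero =>
        show (ev L W).δ 0 (c k ((D.Pr L V).δ j x)).1 = (ev L W).δ j ((Hypercov.res L h).app _ x.1)
        refine (congrArg Prod.fst (hc' x hx j).first.2.2).trans ?_
        exact res_δ L h j x.1
      | succ i =>
        cases j using Fin.cases with
        | zero => exact absurd hij (by simp [Fin.le_def])
        | succ j =>
          show (ev L W).δ i.succ (c k ((D.Pr L V).δ j.succ x)).1 = (ev L W).δ j.succ (c k ((D.Pr L V).δ i.castSucc x)).1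
          have hij' : i ≤ j := Fin.succ_le_succ_iff.1 hij
          cases k with
          | zero =>
            obtain rfl : i = 0 := Subsingleton.elim (α := Fin 1) _ _
            obtain rfl : j = 0 := Subsingleton.elim (α := Fin 1) _ _
            exact congrArg Prod.fst ((hc' x hx _).2.2.2.trans (hc' x hx _).2.2.2.symm)
          | succ k =>
            refine congrArg Prod.fst (((hc' x hx _).2.2.2.1 i).trans (((congrArg (c k)) ?_).trans
              ((hc' x hx _).2.2.2.1 j).symm))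
            exact ConcreteCategory.congr_hom ((D.Pr L V).δ_comp_δ hij') x
    obtain ⟨R, hR, hRS⟩ := forall_finset_mem J S
      (fun x => liftSieve f ((Hypercov.res K (h ≫ g)).app _ (β.app _ (D.c (k + 1) x.2))) (y x)) fun x hx => by
        refine hf.succ W (k + 1) _ (y x) (hb x hx) fun i => ?_
        rw [← res_δ]
        cases i using Fin.cases with
        | zero =>
          show (evMap f W).app _ ((Hypercov.res L h).app _ x.1) = _
          rw [evMap_res, hS x hx, res_comp_apply]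
          exact congrArg (fun t => (Hypercov.res K h).app _ ((Hypercov.res K g).app _ t))
            ((congrArg _ (D.δ_zero (k + 1) x.2).symm).trans (NatTrans.naturality_apply β _ _))
        | succ i =>
          refine (hc' x hx i).first.1.trans (congrArg ((Hypercov.res K (h ≫ g)).app _) ?_)
          refine ((congrArg (β.app _) ((hc' x hx i).first.2.1.trans (D.δ_succ k i x.2).symm))).trans ?_
          exact NatTrans.naturality_apply β _ _
    refine J.superset_covering ?_ hR
    intro W' h' hh'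
    have := hRS h' hh'
    choose! l hl hl' using this
    let c₁ : ∀ j, (D.Pr L V) _⦋j⦌ → (D.Pr L W') _⦋j + 1⦌ := fun j x => (D.pres L h').app _ (c j x)
    let c₂ : (D.Pr L V) _⦋k + 1⦌ → (D.Pr L W') _⦋k + 2⦌ :=
      fun x => if hx : x ∈ S then (l x hx, D.c (k + 1) x.2) else c₁ (k + 1) x
    refine ⟨(D.pres L h').app _ v, Function.update c₁ (k + 1) c₂, by rw [Category.assoc]; exact hv.res h',
      hv', fun x hx => ?_⟩
    unfold ConeOK
    rw [Function.update_self, Function.update_of_ne (Nat.succ_ne_self k).symm]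
    simp only [c₂, dif_pos hx]
    refine ⟨?_, trivial, Prod.ext ?_ (D.δ_zero (k + 1) x.2), fun i => Prod.ext ?_ ?_, fun i => ?_⟩
    · refine (hl' x hx).trans ?_
      rw [Category.assoc, res_comp_apply K (h ≫ g) h']
    · exact (hl x hx 0).trans (res_comp_apply L h h' x.1).symm
    · exact hl x hx i.succ
    · exact (D.δ_succ k i x.2).trans (hc' x hx i).first.2.1.symm
    · exact ((hc' x hx i).res h').congr fun j hj => Function.update_of_ne (by omega) _ _

/-- cycles -/
def IsCyc (X : SSet.{u}) : ∀ k, Ch X k → Prop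
  | 0, z => aug z = 0
  | k + 1, z => dch X k z = 0

variable (D f β)

/-- chains over the base -/
def fibCh {V : C} (g : V ⟶ U) (k : ℕ) : AddSubgroup (Ch (D.Pr L V) k) :=
  AddSubgroup.closure (FreeAbelianGroup.of '' {x | D.InFib f β g x})

/-- local boundaries over the base -/
def bdSieve {V : C} (g : V ⟶ U) (k : ℕ) (z : Ch (D.Pr L V) k) : Sieve V where
  arrows W h := ∃ w ∈ D.fibCh f β (h ≫ g) (k + 1), dch (D.Pr L W) k w = chMap (D.pres L h) k z
  downward_closed := by
    rintro W W' h ⟨w, hw, hdw⟩ h'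
    refine ⟨chMap (D.pres L h') _ w, ?_, ?_⟩
    · rw [Category.assoc]
      exact (AddSubgroup.closure_le (K := (D.fibCh f β (h' ≫ h ≫ g) (k + 1)).comap (chMap (D.pres L h') _))).2 (by
        rintro _ ⟨x, hx, rfl⟩
        exact AddSubgroup.subset_closure ⟨_, InFib.res hx h', (chMap_of _ _ x).symm⟩) hw
    · rw [← chMap_dch, hdw, ← chMap_comp]
      congr 2
      ext m x
      · exact (res_comp_apply L h h' x.1).symm
      · rfl

variable {D f β}

/-- cycles over a base with a cone are locally boundaries -/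
theorem bdSieve_mem (hf : LocLift J f) {V : C} (g : V ⟶ U) (k : ℕ) (z : Ch (D.Pr L V) k)
    (hz : z ∈ D.fibCh f β g k) (hc : IsCyc (D.Pr L V) k z) : D.bdSieve f β g k z ∈ J V := by
  classical
  obtain ⟨S₀, hS₀, hzS⟩ : ∃ S : Finset ((D.Pr L V) _⦋k⦌), (∀ x ∈ S, D.InFib f β g x) ∧
      z ∈ AddSubgroup.closure (FreeAbelianGroup.of '' (S : Set _)) := by
    clear hc
    induction hz using AddSubgroup.closure_induction with
    | mem x hx =>
      obtain ⟨a, ha, rfl⟩ := hx
      exact ⟨{a}, fun y hy => by rw [Finset.mem_singleton.1 hy]; exact ha,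
        AddSubgroup.subset_closure ⟨a, Finset.mem_singleton_self a, rfl⟩⟩
    | zero => exact ⟨∅, by simp, zero_mem _⟩
    | add x y _ _ hx hy =>
      obtain ⟨S, hS, hxS⟩ := hx
      obtain ⟨T, hT, hyT⟩ := hy
      exact ⟨S ∪ T, fun a ha => (Finset.mem_union.1 ha).elim (hS a) (hT a), add_mem
        (AddSubgroup.closure_mono (Set.image_mono (by simp)) hxS)
        (AddSubgroup.closure_mono (Set.image_mono (by simp)) hyT)⟩
    | neg x _ hx => obtain ⟨S, hS, hxS⟩ := hx; exact ⟨S, hS, neg_mem hxS⟩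
  refine J.superset_covering ?_ (coneSieve_mem hf g k S₀ hS₀)
  rintro W h ⟨v, c, hv, -, hc'⟩
  refine ⟨FreeAbelianGroup.map (c k) z, ?_, ?_⟩
  · refine (AddSubgroup.closure_le (K := (D.fibCh f β (h ≫ g) (k + 1)).comap (FreeAbelianGroup.map (c k)))).2 (by
      rintro _ ⟨x, hx, rfl⟩
      exact AddSubgroup.subset_closure ⟨_, (hc' x hx).first.1, (FreeAbelianGroup.map_of_apply x).symm⟩) hzS
  · cases k with
    | zero =>
      have := eq_of_eq_on_of (S := (S₀ : Set _))
        (f := (dch (D.Pr L W) 0).comp (FreeAbelianGroup.map (c 0)))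
        (g := chMap (D.pres L h) 0 - (zmultiplesHom _ (FreeAbelianGroup.of v)).comp aug) (fun x hx => by
          show dch (D.Pr L W) 0 (FreeAbelianGroup.map (c 0) (FreeAbelianGroup.of x)) =
            chMap (D.pres L h) 0 (FreeAbelianGroup.of x) - aug (FreeAbelianGroup.of x) • FreeAbelianGroup.of v
          rw [show aug (FreeAbelianGroup.of x) = 1 from FreeAbelianGroup.lift_apply_of _ x, chMap_of, one_smul]
          refine (congrArg _ (FreeAbelianGroup.map_of_apply x)).trans ((dch_of (D.Pr L W) 0 (c 0 x)).trans ?_)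
          refine (Fin.sum_univ_two _).trans ?_
          refine (congrArg₂ (fun a b => ((-1 : ℤ) ^ (0 : ℕ)) • FreeAbelianGroup.of a + ((-1 : ℤ) ^ (1 : ℕ)) • FreeAbelianGroup.of b)
            (hc' x hx).2.2.1 (hc' x hx).2.2.2).trans ?_
          simp [sub_eq_add_neg]) hzS
      simp only [AddMonoidHom.comp_apply, AddMonoidHom.sub_apply] at this
      rw [this, show aug z = 0 from hc]
      simp
      rfl
    | succ k =>
      have := eq_of_eq_on_of (S := (S₀ : Set _))
        (f := (dch (D.Pr L W) (k + 1)).comp (FreeAbelianGroup.map (c (k + 1))))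
        (g := chMap (D.pres L h) (k + 1) - (FreeAbelianGroup.map (c k)).comp (dch (D.Pr L V) k)) (fun x hx => by
          show dch (D.Pr L W) (k + 1) (FreeAbelianGroup.map (c (k + 1)) (FreeAbelianGroup.of x)) =
            chMap (D.pres L h) (k + 1) (FreeAbelianGroup.of x) -
              FreeAbelianGroup.map (c k) (dch (D.Pr L V) k (FreeAbelianGroup.of x))
          rw [chMap_of, dch_of (D.Pr L V) k x, map_sum]
          refine (congrArg _ (FreeAbelianGroup.map_of_apply x)).trans ((dch_of (D.Pr L W) (k + 1) (c (k + 1) x)).trans ?_)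
          refine (Fin.sum_univ_succ _).trans ?_
          rw [sub_eq_add_neg, ← Finset.sum_neg_distrib]
          refine congrArg₂ (· + ·) ?_ (Finset.sum_congr rfl fun i _ => ?_)
          · refine (congrArg (fun a => ((-1 : ℤ) ^ (0 : ℕ)) • FreeAbelianGroup.of a) (hc' x hx).2.2.1).trans ?_
            simp
          · refine (congrArg (fun a => ((-1 : ℤ) ^ (i.succ : ℕ)) • FreeAbelianGroup.of a) ((hc' x hx).2.2.2.1 i)).trans ?_
            rw [map_zsmul]
            simp [pow_succ]
            ) hzS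
      simp only [AddMonoidHom.comp_apply, AddMonoidHom.sub_apply] at this
      rw [this, show dch (D.Pr L V) k z = 0 from hc, map_zero, sub_zero]

end ConeData

end Groth.Agent.Hypercov
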