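import Groth.Agent.Hypercov.LocFill
import Groth.Agent.GrothSS.Functors
import Groth.Agent.RDerLES.LES
import Mathlib.AlgebraicTopology.AlternatingFaceMapComplex
import Mathlib.Algebra.Category.Grp.Limits
import Mathlib.Algebra.Category.Grp.AB
import Mathlib.CategoryTheory.Abelian.GrothendieckCategory.EnoughInjectives
import Mathlib.CategoryTheory.Abelian.GrothendieckCategory.Basic
import Mathlib.CategoryTheory.Abelian.GrothendieckAxioms.FunctorCategory
import Mathlib.CategoryTheory.Generator.Presheaf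
import Mathlib.CategoryTheory.Abelian.Injective.Resolution

/-! # Derived functors of the limit of a cosimplicial abelian group -/

set_option autoImplicit false
set_option linter.all false
set_option backward.isDefEq.respectTransparency false
set_option backward.defeqAttrib.useBackward true

universe u

open CategoryTheory CategoryTheory.Limits AlgebraicTopology Simplicial

namespace Groth.Agent.Hypercov

/-- cosimplicial abelian groups -/
abbrev Cs : Type (u + 1) := SimplexCategory ⥤ AddCommGrpCat.{u}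

instance hasSeparator_cs : HasSeparator Cs.{u} :=
  haveI : HasCoproducts.{0} AddCommGrpCat.{u} := fun J =>
    (hasColimitsOfSizeShrink.{0, 0, u, u} AddCommGrpCat.{u}).has_colimits_of_shape _
  haveI : HasSeparator ((SimplexCategoryᵒᵖ)ᵒᵖ ⥤ AddCommGrpCat.{u}) := Presheaf.hasSeparator SimplexCategoryᵒᵖ _
  HasSeparator.of_equivalence (opOpEquivalence SimplexCategory).congrLeft

instance isGrothendieckAbelian_cs : IsGrothendieckAbelian.{u} Cs.{u} where
  ab5OfSize := { ofShape := fun K _ _ => inferInstance }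

/-- coface maps -/
abbrev cδ (X : Cs.{u}) {n : ℕ} (i : Fin (n + 2)) : X.obj ⦋n⦌ ⟶ X.obj ⦋n + 1⦌ :=
  CosimplicialObject.δ (X := (X : CosimplicialObject AddCommGrpCat.{u})) i

/-- the limit functor -/
noncomputable abbrev limF : Cs.{u} ⥤ AddCommGrpCat.{u} := lim

/-- the alternating complex -/
noncomputable abbrev altC : Cs.{u} ⥤ CochainComplex AddCommGrpCat.{u} ℕ := alternatingCofaceMapComplex _

/-- cohomology -/
noncomputable abbrev csH (p : ℕ) : Cs.{u} ⥤ AddCommGrpCat.{u} :=
  altC ⋙ HomologicalComplex.homologyFunctor _ _ p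

lemma altC_d_apply (X : Cs.{u}) (p : ℕ) (x : X.obj ⦋p⦌) :
    (altC.obj X).d p (p + 1) x = ∑ i : Fin (p + 2), (-1 : ℤ) ^ (i : ℕ) • cδ X i x := by
  rw [show (altC.obj X).d p (p + 1) = AlternatingCofaceMapComplex.objD X p from by
    dsimp [altC, alternatingCofaceMapComplex, AlternatingCofaceMapComplex.obj]
    exact CochainComplex.of_d _ _ p]
  refine (sum_hom_apply (A := X.obj ⦋p⦌) (B := X.obj ⦋p + 1⦌) Finset.univ
    (fun i : Fin (p + 2) => (-1 : ℤ) ^ (i : ℕ) • cδ X i) x).trans (Finset.sum_congr rfl fun i _ => ?_)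
  rfl

/-- `n ↦ n + 1`, keeping the vertex `0` -/
def shiftS : SimplexCategory ⥤ SimplexCategory where
  obj p := ⦋p.len + 1⦌
  map {p q} α := consZero (α ≫ SimplexCategory.δ (n := q.len) 0)
  map_id p := by
    ext x : 3
    cases x using Fin.cases with
    | zero => rfl
    | succ x => rfl
  map_comp {p q r} α β := by
    ext x : 3
    cases x using Fin.cases with
    | zero => rfl
    | succ x => rfl

/-- the inclusion into the shift -/
def shiftη : 𝟭 SimplexCategory ⟶ shiftS where
  app p := SimplexCategory.δ (n := p.len) 0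
  naturality p q α := (δ_zero_consZero (k := p.len) (α ≫ SimplexCategory.δ (n := q.len) 0)).symm

/-- décalage -/
abbrev dec (X : Cs.{u}) : Cs.{u} := shiftS ⋙ X

/-- the embedding into the décalage -/
def toDec (X : Cs.{u}) : X ⟶ dec X := Functor.whiskerRight shiftη X

instance mono_toDec (X : Cs.{u}) : Mono (toDec X) := by
  haveI : ∀ p, Mono ((toDec X).app p) := fun p => by
    show Mono (X.map (SimplexCategory.δ (n := p.len) 0))
    haveI : IsSplitMono (X.map (SimplexCategory.δ (n := p.len) 0)) :=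
      IsSplitMono.mk' ⟨X.map (SimplexCategory.σ 0), by
        rw [← X.map_comp, show SimplexCategory.δ (n := p.len) 0 ≫ SimplexCategory.σ 0 = 𝟙 _ from
          SimplexCategory.δ_comp_σ_self' (by simp)]
        exact X.map_id _⟩
    infer_instance
  exact NatTrans.mono_of_mono_app _

lemma shift_δ_σ (p : ℕ) : shiftS.map (SimplexCategory.δ (0 : Fin (p + 2))) ≫ SimplexCategory.σ 0 = 𝟙 _ := by
  ext x : 3
  cases x using Fin.cases with
  | zero => rfl
  | succ x => simp [shiftS, consZero, SimplexCategory.δ, SimplexCategory.σ]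

lemma shift_δ_succ_σ (p : ℕ) (i : Fin (p + 2)) :
    shiftS.map (SimplexCategory.δ i.succ) ≫ SimplexCategory.σ 0 = SimplexCategory.σ 0 ≫ shiftS.map (SimplexCategory.δ i) := by
  ext x : 3
  cases x using Fin.cases with
  | zero => rfl
  | succ x =>
    cases x using Fin.cases with
    | zero => rfl
    | succ x => simp [shiftS, consZero, SimplexCategory.δ, SimplexCategory.σ, Fin.succ_succAbove_succ]

theorem isZero_csH_dec (X : Cs.{u}) (p : ℕ) : IsZero ((csH (p + 1)).obj (dec X)) := by
  apply HomologicalComplex.ExactAt.isZero_homology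
  rw [HomologicalComplex.exactAt_iff' _ p (p + 1) (p + 2) (by simp) (by simp), ShortComplex.ab_exact_iff]
  intro x hx
  let h : ∀ q : ℕ, (dec X).obj ⦋q + 1⦌ ⟶ (dec X).obj ⦋q⦌ := fun q => X.map (SimplexCategory.σ 0)
  refine ⟨h p x, ?_⟩
  have h3 : ∀ q (y : (dec X).obj ⦋q⦌), h q (cδ (dec X) 0 y) = y := fun q y =>
    (Functor.map_comp_apply X (shiftS.map (SimplexCategory.δ 0)) (SimplexCategory.σ 0) y).symm.trans
      ((congrArg (fun m => X.map m y) (shift_δ_σ q)).trans (Functor.map_id_apply X _ y))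
  have h4 : ∀ q (i : Fin (q + 2)) (y : (dec X).obj ⦋q + 1⦌),
      h (q + 1) (cδ (dec X) i.succ y) = cδ (dec X) i (h q y) := fun q i y =>
    (Functor.map_comp_apply X (shiftS.map (SimplexCategory.δ i.succ)) (SimplexCategory.σ 0) y).symm.trans
      ((congrArg (fun m => X.map m y) (shift_δ_succ_σ q i)).trans
        (Functor.map_comp_apply X (SimplexCategory.σ 0) (shiftS.map (SimplexCategory.δ i)) y))
  have e := congrArg (h (p + 1)) ((altC_d_apply (dec X) (p + 1) x).symm.trans hx)
  simp only [map_sum, map_zero, map_zsmul, Fin.sum_univ_succ (n := p + 2), h3, h4, Fin.val_zero, pow_zero,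
    one_smul, Fin.val_succ, pow_succ, mul_neg, mul_one, neg_smul, Finset.sum_neg_distrib, map_add, map_neg] at e
  refine (altC_d_apply (dec X) p (h p x)).trans ?_
  exact (add_neg_eq_zero.1 e).symm

theorem isZero_csH_injective (X : Cs.{u}) [Injective X] (p : ℕ) : IsZero ((csH (p + 1)).obj X) := by
  rw [IsZero.iff_id_eq_zero, ← (csH (p + 1)).map_id, ← Injective.comp_factorThru (𝟙 X) (toDec X),
    Functor.map_comp, (isZero_csH_dec X p).eq_of_tgt ((csH (p + 1)).map (toDec X)) 0, zero_comp]

instance additive_altC : (altC.{u}).Additive where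
  map_add {X Y f g} := HomologicalComplex.hom_ext _ _ fun n => rfl

lemma altC_shortExact {T : ShortComplex Cs.{u}} (hT : T.ShortExact) : (T.map altC).ShortExact := by
  refine HomologicalComplex.shortExact_of_degreewise_shortExact _ fun p => ?_
  exact hT.map_of_exact ((evaluation SimplexCategory AddCommGrpCat.{u}).obj ⦋p⦌)

instance additive_limF : (limF.{u}).Additive where
  map_add {X Y f g} := limit.hom_ext fun q => by
    rw [Preadditive.add_comp]
    exact ((limMap_π (f + g) q).trans (Preadditive.comp_add _ _ _ _ _ _)).trans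
      (congrArg₂ (· + ·) (limMap_π f q).symm (limMap_π g q).symm)

/-- restriction of the limit to the vertices -/
noncomputable def limToZero : (limF.{u}) ⟶ (evaluation SimplexCategory AddCommGrpCat.{u}).obj ⦋0⦌ where
  app X := limit.π X ⦋0⦌
  naturality X Y f := limMap_π f ⦋0⦌

lemma limToZero_d (X : Cs.{u}) : limit.π X ⦋0⦌ ≫ (altC.obj X).d 0 1 = 0 := by
  ext x
  refine (altC_d_apply X 0 (limit.π X ⦋0⦌ x)).trans ?_
  have h : ∀ i : Fin 2, cδ X i (limit.π X ⦋0⦌ x) = limit.π X ⦋1⦌ x := fun i =>
    ConcreteCategory.congr_hom (limit.w X (SimplexCategory.δ i)) x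
  simp [Fin.sum_univ_two, h]

/-- `lim ≅ H⁰` -/
noncomputable def limToH0 : limF.{u} ⟶ csH 0 where
  app X := (altC.obj X).liftCycles (limit.π X ⦋0⦌) 1 (by simp) (limToZero_d X) ≫ (altC.obj X).homologyπ 0
  naturality X Y f := by
    dsimp [csH]
    rw [Category.assoc, HomologicalComplex.homologyπ_naturality, ← Category.assoc, ← Category.assoc]
    congr 1
    rw [← cancel_mono ((altC.obj Y).iCycles 0), Category.assoc, Category.assoc]
    refine ((limMap f) ≫= HomologicalComplex.liftCycles_i (altC.obj Y) (limit.π Y ⦋0⦌) 1 (by simp) (limToZero_d Y)).trans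
      (((limMap_π f ⦋0⦌).trans ?_).trans
        ((altC.obj X).liftCycles (limit.π X ⦋0⦌) 1 (by simp) (limToZero_d X) ≫= HomologicalComplex.cyclesMap_i (altC.map f) 0).symm)
    exact (HomologicalComplex.liftCycles_i_assoc (altC.obj X) (limit.π X ⦋0⦌) 1 (by simp) (limToZero_d X) ((altC.map f).f 0)).symm

lemma const_eq (X : Cs.{u}) (x : X.obj ⦋0⦌) (hx : cδ X 0 x = cδ X 1 x) (q : SimplexCategory) (i : Fin (q.len + 1)) :
    X.map (SimplexCategory.const ⦋0⦌ q i) x = X.map (SimplexCategory.const ⦋0⦌ q 0) x := by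
  let e : ⦋1⦌ ⟶ q := SimplexCategory.Hom.mk ⟨![0, i], fun a b h => by
    fin_cases a <;> fin_cases b <;> simp_all⟩
  have h1 : SimplexCategory.δ (0 : Fin 2) ≫ e = SimplexCategory.const ⦋0⦌ q i := by
    ext a : 3
    obtain rfl : a = 0 := Subsingleton.elim (α := Fin 1) _ _
    rfl
  have h2 : SimplexCategory.δ (1 : Fin 2) ≫ e = SimplexCategory.const ⦋0⦌ q 0 := by
    ext a : 3
    obtain rfl : a = 0 := Subsingleton.elim (α := Fin 1) _ _
    rfl
  rw [← h1, ← h2, Functor.map_comp_apply, Functor.map_comp_apply]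
  exact congrArg (X.map e) hx

instance isIso_limToH0_app (X : Cs.{u}) : IsIso (limToH0.app X) := by
  haveI : IsIso ((altC.obj X).homologyπ 0) := (altC.obj X).isIso_homologyπ 0 0 (by simp) (by simp)
  suffices IsIso ((altC.obj X).liftCycles (limit.π X ⦋0⦌) 1 (by simp) (limToZero_d X)) by
    show IsIso (_ ≫ _)
    infer_instance
  have hi := (AddCommGrpCat.mono_iff_injective ((altC.obj X).iCycles 0)).1 inferInstance
  have hl : ∀ a, (altC.obj X).iCycles 0 ((altC.obj X).liftCycles (limit.π X ⦋0⦌) 1 (by simp) (limToZero_d X) a) =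
      limit.π X ⦋0⦌ a := fun a => ConcreteCategory.congr_hom (HomologicalComplex.liftCycles_i _ _ _ _ _) a
  have hπ : Function.Injective (limit.π X ⦋0⦌) := fun a b e => Concrete.limit_ext X a b fun q => by
    rw [← limit.w X (SimplexCategory.const ⦋0⦌ q 0), ConcreteCategory.comp_apply, ConcreteCategory.comp_apply, e]
  rw [ConcreteCategory.isIso_iff_bijective]
  refine ⟨fun a b e => hπ (by rw [← hl, ← hl, e]), fun z => ?_⟩
  let x : X.obj ⦋0⦌ := (altC.obj X).iCycles 0 z
  have hz : cδ X 0 x = cδ X 1 x := by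
    have h := (altC_d_apply X 0 x).symm.trans (ConcreteCategory.congr_hom ((altC.obj X).iCycles_d 0 1) z)
    simp [Fin.sum_univ_two] at h
    exact add_neg_eq_zero.1 h
  let s : Cone X :=
    { pt := AddCommGrpCat.of (ULift.{u} ℤ)
      π :=
        { app := fun q => AddCommGrpCat.ofHom ((zmultiplesHom _ (X.map (SimplexCategory.const ⦋0⦌ q 0) x)).comp
            AddEquiv.ulift.toAddMonoidHom)
          naturality := fun q r α => by
            ext ⟨m⟩
            show m • X.map (SimplexCategory.const ⦋0⦌ r 0) x = X.map α (m • X.map (SimplexCategory.const ⦋0⦌ q 0) x)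
            rw [map_zsmul, ← Functor.map_comp_apply, SimplexCategory.const_comp]
            exact congrArg (m • ·) (const_eq X x hz r _).symm } }
  refine ⟨limit.lift X s ⟨1⟩, hi ?_⟩
  rw [hl]
  refine (ConcreteCategory.congr_hom (limit.lift_π s ⦋0⦌) (⟨1⟩ : ULift.{u} ℤ)).trans ?_
  show (1 : ℤ) • X.map (SimplexCategory.const ⦋0⦌ ⦋0⦌ 0) x = x
  rw [one_smul, show SimplexCategory.const ⦋0⦌ ⦋0⦌ 0 = 𝟙 _ from by
    ext a : 3; exact Subsingleton.elim (α := Fin 1) _ _, Functor.map_id_apply]

/-- `lim ≅ H⁰` -/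
noncomputable def limIsoH0 : limF.{u} ≅ csH 0 :=
  haveI : ∀ X, IsIso (limToH0.app X) := fun X => inferInstance
  haveI : IsIso limToH0.{u} := NatIso.isIso_of_isIso_app _
  asIso limToH0

/-- cohomology is the derived functor of the limit -/
theorem nonempty_rightDerived_lim_iso (p : ℕ) (X : Cs.{u}) :
    Nonempty ((limF.rightDerived p).obj X ≅ (csH p).obj X) := by
  induction p generalizing X with
  | zero => exact ⟨(limF.rightDerivedZeroIsoSelf).app X ≪≫ limIsoH0.app X⟩
  | succ p ih =>
    let ip := (EnoughInjectives.presentation X).some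
    haveI := ip.mono
    let T : ShortComplex Cs.{u} := ShortComplex.mk ip.f (cokernel.π ip.f) (cokernel.condition _)
    haveI : Injective T.X₂ := ip.injective
    have hT : T.ShortExact :=
      { exact := ShortComplex.exact_of_g_is_cokernel _ (cokernelIsCokernel _)
        mono_f := ip.mono
        epi_g := inferInstanceAs (Epi (cokernel.π ip.f)) }
    have hA := altC_shortExact hT
    let L := RDerLES.derivedLES (limF.{u})
    haveI : Epi (L.δ T hT p (p + 1) rfl) :=
      (L.exact₁ T hT p (p + 1) rfl).epi_f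
        ((Functor.isZero_rightDerived_obj_injective_succ limF p T.X₂).eq_of_tgt _ _)
    haveI : Epi (hA.δ p (p + 1) rfl) :=
      (hA.homology_exact₁ p (p + 1) rfl).epi_f ((isZero_csH_injective T.X₂ p).eq_of_tgt _ _)
    cases p with
    | zero =>
      let e : limF.rightDerived 0 ≅ csH 0 := limF.rightDerivedZeroIsoSelf ≪≫ limIsoH0
      exact ⟨IsColimit.coconePointUniqueUpToIso ((L.exact₃ T hT 0 1 rfl).gIsCokernel) (cokernelIsCokernel _) ≪≫
        cokernel.mapIso _ _ (e.app T.X₂) (e.app T.X₃) (e.hom.naturality T.g) ≪≫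
        IsColimit.coconePointUniqueUpToIso (cokernelIsCokernel _) ((hA.homology_exact₃ 0 1 rfl).gIsCokernel)⟩
    | succ p =>
      haveI : Mono (L.δ T hT (p + 1) (p + 1 + 1) rfl) :=
        (L.exact₃ T hT (p + 1) (p + 1 + 1) rfl).mono_g
          ((Functor.isZero_rightDerived_obj_injective_succ limF p T.X₂).eq_of_src _ _)
      haveI : Mono (hA.δ (p + 1) (p + 1 + 1) rfl) :=
        (hA.homology_exact₃ (p + 1) (p + 1 + 1) rfl).mono_g ((isZero_csH_injective T.X₂ p).eq_of_src _ _)
      haveI := isIso_of_mono_of_epi (L.δ T hT (p + 1) (p + 1 + 1) rfl)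
      haveI := isIso_of_mono_of_epi (hA.δ (p + 1) (p + 1 + 1) rfl)
      exact ⟨(asIso (L.δ T hT (p + 1) (p + 1 + 1) rfl)).symm ≪≫ (ih T.X₃).some ≪≫
        asIso (hA.δ (p + 1) (p + 1 + 1) rfl)⟩

theorem isAcyclicObj_lim {X : Cs.{u}} (h : ∀ p, IsZero ((csH (p + 1)).obj X)) :
    GrothSS.IsAcyclicObj limF X :=
  fun p => (h p).of_iso (nonempty_rightDerived_lim_iso (p + 1) X).some

end Groth.Agent.Hypercov
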