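import Groth.Agent.Hypercov.LocFill
import Mathlib.Algebra.Category.Grp.Abelian
import Mathlib.Algebra.Category.Grp.FilteredColimits
import Mathlib.Algebra.Category.Grp.Limits
import Mathlib.Algebra.Homology.ShortComplex.Ab
import Mathlib.Algebra.Homology.ShortComplex.HomologicalComplex
import Mathlib.Algebra.Homology.ShortComplex.PreservesHomology
import Mathlib.CategoryTheory.Sites.Abelian
import Mathlib.CategoryTheory.Sites.LocallyBijective
import Mathlib.CategoryTheory.Sites.LeftExact
import Mathlib.CategoryTheory.Abelian.FunctorCategory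
import Mathlib.CategoryTheory.Preadditive.FunctorCategory
import Mathlib.CategoryTheory.Limits.Preserves.FunctorCategory

/-! # From local homology isomorphisms to isomorphisms of homology sheaves -/

set_option autoImplicit false
set_option linter.all false
set_option backward.isDefEq.respectTransparency false
set_option backward.defeqAttrib.useBackward true

universe u

open CategoryTheory CategoryTheory.Limits Opposite Simplicial AlgebraicTopology

namespace Groth.Agent.Hypercov

variable {C : Type u} [SmallCategory C] {J : GrothendieckTopology C}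

variable (C) in
/-- abelian presheaves -/
abbrev AbPre : Type (u + 1) := Cᵒᵖ ⥤ AddCommGrpCat.{u}

/-- evaluation -/
noncomputable abbrev evAb (U : C) : AbPre C ⥤ AddCommGrpCat.{u} := (evaluation Cᵒᵖ AddCommGrpCat.{u}).obj (op U)

section

variable {c : ComplexShape ℕ} (P : HomologicalComplex (AbPre C) c)

lemma exists_cycles {U : C} {i j : ℕ} (hij : c.next i = j) (z : (P.X i).obj (op U))
    (hz : (P.d i j).app (op U) z = 0) : ∃ x : (P.cycles i).obj (op U), (P.iCycles i).app (op U) x = z := by
  have h : (ShortComplex.mk (P.iCycles i) (P.d i j) (P.iCycles_d i j)).Exact :=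
    ShortComplex.exact_of_f_is_kernel _ (P.cyclesIsKernel i j hij)
  exact (ShortComplex.ab_exact_iff _).1 (h.map (evAb U)) z hz

lemma iCycles_injective {U : C} (i : ℕ) : Function.Injective ((P.iCycles i).app (op U)) :=
  (AddCommGrpCat.mono_iff_injective _).1 (inferInstanceAs (Mono ((evAb U).map (P.iCycles i))))

lemma homologyπ_surjective {U : C} (i : ℕ) : Function.Surjective ((P.homologyπ i).app (op U)) :=
  (AddCommGrpCat.epi_iff_surjective _).1 (inferInstanceAs (Epi ((evAb U).map (P.homologyπ i))))

lemma exists_toCycles {U : C} {i j : ℕ} (hij : c.prev i = j) (x : (P.cycles i).obj (op U))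
    (hx : (P.homologyπ i).app (op U) x = 0) :
    ∃ w : (P.X j).obj (op U), (P.toCycles j i).app (op U) w = x := by
  have h : (ShortComplex.mk (P.toCycles j i) (P.homologyπ i) (P.toCycles_comp_homologyπ j i)).Exact :=
    ShortComplex.exact_of_g_is_cokernel _ (P.homologyIsCokernel j i hij)
  exact (ShortComplex.ab_exact_iff _).1 (h.map (evAb U)) x hx

variable {P} {Q : HomologicalComplex (AbPre C) c} (φ : P ⟶ Q)

/-- the natural condition for a map of complexes of presheaves to be locally bijective on homology -/
theorem isLocallySurjective_homologyMap {i j k : ℕ} (hij : c.next i = j) (hki : c.prev i = k)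
    (h : ∀ (U : C) (z : (Q.X i).obj (op U)), (Q.d i j).app (op U) z = 0 → ∃ R ∈ J U, ∀ ⦃V : C⦄ (g : V ⟶ U), R g →
      ∃ z' : (P.X i).obj (op V), (P.d i j).app (op V) z' = 0 ∧ (φ.f i).app (op V) z' = (Q.X i).map g.op z) :
    Presheaf.IsLocallySurjective J (HomologicalComplex.homologyMap φ i) where
  imageSieve_mem {U} s := by
    obtain ⟨y, rfl⟩ := homologyπ_surjective Q i s
    have hy : (Q.d i j).app (op U) ((Q.iCycles i).app (op U) y) = 0 :=
      ConcreteCategory.congr_hom (NatTrans.congr_app (Q.iCycles_d i j) (op U)) y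
    obtain ⟨R, hR, hRz⟩ := h U _ hy
    refine J.superset_covering ?_ hR
    intro V g hg
    obtain ⟨z', hz', he⟩ := hRz g hg
    obtain ⟨x, rfl⟩ := exists_cycles P hij z' hz'
    refine ⟨(P.homologyπ i).app (op V) x, ?_⟩
    refine (ConcreteCategory.congr_hom (NatTrans.congr_app (HomologicalComplex.homologyπ_naturality φ i) (op V)) x).trans ?_
    refine Eq.trans ?_ (NatTrans.naturality_apply (Q.homologyπ i) g.op y)
    refine congrArg ((Q.homologyπ i).app (op V)) (iCycles_injective Q i ?_)
    refine (ConcreteCategory.congr_hom (NatTrans.congr_app (HomologicalComplex.cyclesMap_i φ i) (op V)) x).trans ?_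
    exact he.trans (NatTrans.naturality_apply (Q.iCycles i) g.op y).symm

theorem isLocallyInjective_homologyMap {i j k : ℕ} (hij : c.next i = j) (hki : c.prev i = k)
    (h : ∀ (U : C) (z : (P.X i).obj (op U)) (u : (Q.X k).obj (op U)), (P.d i j).app (op U) z = 0 →
      (Q.d k i).app (op U) u = (φ.f i).app (op U) z → ∃ R ∈ J U, ∀ ⦃V : C⦄ (g : V ⟶ U), R g →
      ∃ w : (P.X k).obj (op V), (P.d k i).app (op V) w = (P.X i).map g.op z) :
    Presheaf.IsLocallyInjective J (HomologicalComplex.homologyMap φ i) where
  equalizerSieve_mem {Uop} a b e := by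
    obtain ⟨U, rfl⟩ : ∃ U, Uop = op U := ⟨Uop.unop, rfl⟩
    obtain ⟨x, hx⟩ := homologyπ_surjective P i (a - b)
    have h0 : (Q.homologyπ i).app (op U) ((HomologicalComplex.cyclesMap φ i).app (op U) x) = 0 := by
      refine (ConcreteCategory.congr_hom (NatTrans.congr_app (HomologicalComplex.homologyπ_naturality φ i) (op U)) x).symm.trans ?_
      show (HomologicalComplex.homologyMap φ i).app (op U) ((P.homologyπ i).app (op U) x) = 0
      rw [hx, map_sub, e, sub_self]
    obtain ⟨u, hu⟩ := exists_toCycles Q hki _ h0
    have hu' : (Q.d k i).app (op U) u = (φ.f i).app (op U) ((P.iCycles i).app (op U) x) := by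
      refine (ConcreteCategory.congr_hom (NatTrans.congr_app (Q.toCycles_i k i) (op U)) u).symm.trans ?_
      refine (congrArg ((Q.iCycles i).app (op U)) hu).trans ?_
      exact ConcreteCategory.congr_hom (NatTrans.congr_app (HomologicalComplex.cyclesMap_i φ i) (op U)) x
    obtain ⟨R, hR, hRw⟩ := h U _ u (ConcreteCategory.congr_hom (NatTrans.congr_app (P.iCycles_d i j) (op U)) x) hu'
    refine J.superset_covering ?_ hR
    intro V g hg
    obtain ⟨w, hw⟩ := hRw g hg
    show (P.homology i).map g.op a = (P.homology i).map g.op b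
    rw [← sub_eq_zero, ← map_sub, ← hx, ← NatTrans.naturality_apply (P.homologyπ i) g.op x]
    have : (P.toCycles k i).app (op V) w = (P.cycles i).map g.op x := iCycles_injective P i (by
      refine (ConcreteCategory.congr_hom (NatTrans.congr_app (P.toCycles_i k i) (op V)) w).trans ?_
      exact hw.trans (NatTrans.naturality_apply (P.iCycles i) g.op x).symm)
    rw [← this]
    exact ConcreteCategory.congr_hom (NatTrans.congr_app (P.toCycles_comp_homologyπ k i) (op V)) w

theorem isIso_homologyMap_sheafify (i : ℕ) [Presheaf.IsLocallyInjective J (HomologicalComplex.homologyMap φ i)]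
    [Presheaf.IsLocallySurjective J (HomologicalComplex.homologyMap φ i)] :
    IsIso (HomologicalComplex.homologyMap (((presheafToSheaf J AddCommGrpCat.{u}).mapHomologicalComplex c).map φ) i) := by
  haveI : IsIso ((presheafToSheaf J AddCommGrpCat.{u}).map (HomologicalComplex.homologyMap φ i)) := by
    rw [← J.W_iff, J.W_iff_isLocallyBijective]
    exact ⟨inferInstance, inferInstance⟩
  exact ((MorphismProperty.isomorphisms _).arrow_mk_iso_iff
    (((Functor.mapArrowFunctor _ _).mapIso
      (ShortComplex.homologyFunctorIso (presheafToSheaf J AddCommGrpCat.{u}))).app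
      (Arrow.mk ((HomologicalComplex.shortComplexFunctor (AbPre C) c i).map φ)))).2 this

end

variable (C) in
/-- the free abelian presheaf -/
noncomputable abbrev freePre : (Cᵒᵖ ⥤ Type u) ⥤ AbPre C :=
  (Functor.whiskeringRight Cᵒᵖ (Type u) AddCommGrpCat.{u}).obj AddCommGrpCat.free.{u}

/-- the complex of free abelian presheaves -/
noncomputable abbrev freeCx (X : SPre C) : ChainComplex (AbPre C) ℕ :=
  (alternatingFaceMapComplex (AbPre C)).obj (((SimplicialObject.whiskering _ _).obj (freePre C)).obj X)

lemma sum_app_apply {F G : AbPre C} {ι : Type} (s : Finset ι) (g : ι → (F ⟶ G)) (U : Cᵒᵖ) (x : F.obj U) :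
    (∑ i ∈ s, g i).app U x = ∑ i ∈ s, (g i).app U x := by
  rw [CategoryTheory.NatTrans.app_sum]
  exact sum_hom_apply s (fun i => (g i).app U) x

lemma freeCx_d_apply (X : SPre C) (U : C) (k : ℕ) (z : Ch (ev X U) (k + 1)) :
    ((freeCx X).d (k + 1) k).app (op U) z = dch (ev X U) k z := by
  rw [show (freeCx X).d (k + 1) k = AlternatingFaceMapComplex.objD
    (((SimplicialObject.whiskering _ _).obj (freePre C)).obj X) k from alternatingFaceMapComplex_obj_d _ _]
  refine Eq.trans ?_ (dch_apply (ev X U) k z).symm
  unfold AlternatingFaceMapComplex.objD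
  erw [sum_app_apply]
  refine Finset.sum_congr rfl fun i _ => ?_
  rfl

theorem isLocallySurjective_freeCx {L K : SPre C} (f : L ⟶ K) (hf : LocLift J f) (i : ℕ) :
    Presheaf.IsLocallySurjective J (HomologicalComplex.homologyMap
      ((alternatingFaceMapComplex (AbPre C)).map (((SimplicialObject.whiskering _ _).obj (freePre C)).map f)) i) := by
  cases i with
  | zero =>
    refine isLocallySurjective_homologyMap _ (j := 0) ChainComplex.next_nat_zero rfl fun U z _ => ?_
    obtain ⟨R, hR, hR'⟩ := hf.surjective_cycles z (k := 0) trivial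
    refine ⟨R, hR, fun V g hg => ?_⟩
    obtain ⟨z', -, h2⟩ := hR' g hg
    exact ⟨z', by rw [HomologicalComplex.shape _ 0 0 (by simp)]; rfl, h2⟩
  | succ i =>
    refine isLocallySurjective_homologyMap _ (j := i) (ChainComplex.next_nat_succ i) rfl fun U z hz => ?_
    obtain ⟨R, hR, hR'⟩ := hf.surjective_cycles z (k := i + 1) ((freeCx_d_apply K U i z).symm.trans hz)
    refine ⟨R, hR, fun V g hg => ?_⟩
    obtain ⟨z', h1, h2⟩ := hR' g hg
    exact ⟨z', (freeCx_d_apply L V i z').trans h1, h2⟩

theorem isLocallyInjective_freeCx {L K : SPre C} (f : L ⟶ K) (hf : LocLift J f) (i : ℕ) :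
    Presheaf.IsLocallyInjective J (HomologicalComplex.homologyMap
      ((alternatingFaceMapComplex (AbPre C)).map (((SimplicialObject.whiskering _ _).obj (freePre C)).map f)) i) := by
  cases i with
  | zero =>
    refine isLocallyInjective_homologyMap _ (j := 0) (k := 1) ChainComplex.next_nat_zero (ChainComplex.prev ℕ 0) fun U z u _ hu => ?_
    obtain ⟨R, hR, hR'⟩ := hf.injective_homology z (k := 0) trivial u ((freeCx_d_apply K U 0 u).symm.trans hu)
    refine ⟨R, hR, fun V g hg => ?_⟩
    obtain ⟨w, hw⟩ := hR' g hg
    exact ⟨w, (freeCx_d_apply L V 0 w).trans hw⟩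
  | succ i =>
    refine isLocallyInjective_homologyMap _ (j := i) (k := i + 2) (ChainComplex.next_nat_succ i) (ChainComplex.prev ℕ (i + 1)) fun U z u hz hu => ?_
    obtain ⟨R, hR, hR'⟩ := hf.injective_homology z (k := i + 1) ((freeCx_d_apply L U i z).symm.trans hz) u
      ((freeCx_d_apply K U (i + 1) u).symm.trans hu)
    refine ⟨R, hR, fun V g hg => ?_⟩
    obtain ⟨w, hw⟩ := hR' g hg
    exact ⟨w, (freeCx_d_apply L V (i + 1) w).trans hw⟩

lemma isIso_homologyMap_of_comp {P Q R S : ChainComplex (Sheaf J AddCommGrpCat.{u}) ℕ} (a : P ⟶ Q) (b : Q ⟶ R)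
    (d : R ⟶ S) [IsIso a] [IsIso d] (i : ℕ) (h : IsIso (HomologicalComplex.homologyMap (a ≫ b ≫ d) i)) :
    IsIso (HomologicalComplex.homologyMap b i) := by
  haveI ha : IsIso (HomologicalComplex.homologyMap a i) :=
    inferInstanceAs (IsIso ((HomologicalComplex.homologyFunctor (Sheaf J AddCommGrpCat.{u}) _ i).map a))
  haveI hd : IsIso (HomologicalComplex.homologyMap d i) :=
    inferInstanceAs (IsIso ((HomologicalComplex.homologyFunctor (Sheaf J AddCommGrpCat.{u}) _ i).map d))
  rw [HomologicalComplex.homologyMap_comp, HomologicalComplex.homologyMap_comp] at h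
  haveI := h
  haveI := IsIso.of_isIso_comp_left (HomologicalComplex.homologyMap a i)
    (HomologicalComplex.homologyMap b i ≫ HomologicalComplex.homologyMap d i)
  exact IsIso.of_isIso_comp_right (HomologicalComplex.homologyMap b i) (HomologicalComplex.homologyMap d i)

variable (J) in
/-- a locally trivial fibration induces isomorphisms on homology sheaves -/
theorem isIso_homologyMap_free {L K : SPre C} (f : L ⟶ K) (hf : LocLift J f) (i : ℕ) :
    IsIso (HomologicalComplex.homologyMap
      ((alternatingFaceMapComplex (Sheaf J AddCommGrpCat.{u})).map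
        (Functor.whiskerRight f (freePre C ⋙ presheafToSheaf J AddCommGrpCat.{u}))) i) := by
  haveI := isLocallySurjective_freeCx f hf i
  haveI := isLocallyInjective_freeCx f hf i
  have h := isIso_homologyMap_sheafify (J := J)
    ((alternatingFaceMapComplex (AbPre C)).map (((SimplicialObject.whiskering _ _).obj (freePre C)).map f)) i
  have e := Functor.congr_hom (map_alternatingFaceMapComplex (presheafToSheaf J AddCommGrpCat.{u}))
    (((SimplicialObject.whiskering _ _).obj (freePre C)).map f)
  rw [Functor.comp_map] at e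
  rw [e] at h
  exact isIso_homologyMap_of_comp _ _ _ i h

end Groth.Agent.Hypercov
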