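import Groth.Agent.Hypercov.Cone
import Mathlib.Algebra.BigOperators.GroupWithZero.Action
import Mathlib.Algebra.Group.Submonoid.BigOperators

/-! # Locally trivial fibrations are local homology isomorphisms -/

set_option autoImplicit false
set_option linter.all false
set_option backward.isDefEq.respectTransparency false
set_option backward.defeqAttrib.useBackward true

universe u

open CategoryTheory Opposite Simplicial SimplexCategory

namespace Groth.Agent.Hypercov

/-- prepend the vertex `0` -/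
def consZero {p m : SimplexCategory} (a : p ⟶ m) : ⦋p.len + 1⦌ ⟶ m :=
  SimplexCategory.Hom.mk ⟨Fin.cases (motive := fun _ => Fin (m.len + 1)) 0 a.toOrderHom, fun i j hij => by
    cases i using Fin.cases with
    | zero => exact Fin.zero_le _
    | succ i =>
      cases j using Fin.cases with
      | zero => exact absurd hij (by simp [Fin.le_def])
      | succ j => exact a.toOrderHom.monotone (Fin.succ_le_succ_iff.1 hij)⟩

lemma δ_zero_consZero {k : ℕ} {m : SimplexCategory} (a : ⦋k⦌ ⟶ m) : δ 0 ≫ consZero a = a := by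
  ext i : 3
  show Fin.cases (motive := fun _ => Fin (m.len + 1)) 0 a.toOrderHom ((0 : Fin (k + 2)).succAbove i) = _
  rw [Fin.succAbove_zero, Fin.cases_succ]

lemma δ_one_consZero {m : SimplexCategory} (a : ⦋0⦌ ⟶ m) : δ 1 ≫ consZero a = SimplexCategory.const _ m 0 := by
  ext i : 3
  obtain rfl : i = 0 := Subsingleton.elim (α := Fin 1) _ _
  rfl

lemma δ_succ_consZero {k : ℕ} {m : SimplexCategory} (i : Fin (k + 2)) (a : ⦋k + 1⦌ ⟶ m) :
    δ i.succ ≫ consZero a = consZero (δ i ≫ a) := by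
  ext x : 3
  show Fin.cases (motive := fun _ => Fin (m.len + 1)) 0 a.toOrderHom (i.succ.succAbove x) = Fin.cases (motive := fun _ => Fin (m.len + 1)) 0 (δ i ≫ a).toOrderHom x
  cases x using Fin.cases with
  | zero => rw [Fin.succ_succAbove_zero]; rfl
  | succ x => rw [Fin.succ_succAbove_succ, Fin.cases_succ, Fin.cases_succ]; rfl

/-- the standard simplex as a cone -/
@[reducible] noncomputable def simplexCone (m : SimplexCategory) : ConeData.{u} where
  B := SSet.stdSimplex.{u}.obj m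
  c k a := SSet.stdSimplex.objEquiv.symm (consZero (SSet.stdSimplex.objEquiv a))
  b₀ := SSet.stdSimplex.objEquiv.symm (SimplexCategory.const _ m 0)
  δ_zero k b := SSet.stdSimplex.objEquiv.injective (δ_zero_consZero _)
  δ_one b := SSet.stdSimplex.objEquiv.injective (δ_one_consZero _)
  δ_succ k i b := SSet.stdSimplex.objEquiv.injective (δ_succ_consZero i _)

variable {C : Type u} [SmallCategory C] {J : GrothendieckTopology C} {L K : SPre C}

/-! ### sections -/

/-- partial sections -/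
def SecOK (f : L ⟶ K) {U W : C} (h : W ⟶ U) (s : ∀ k, (ev K U) _⦋k⦌ → (ev L W) _⦋k⦌) :
    ∀ k, (ev K U) _⦋k⦌ → Prop
  | 0, w => (evMap f W).app _ (s 0 w) = (res K h).app _ w
  | k + 1, w => (evMap f W).app _ (s (k + 1) w) = (res K h).app _ w ∧
      (∀ i, (ev L W).δ i (s (k + 1) w) = s k ((ev K U).δ i w)) ∧ ∀ i, SecOK f h s k ((ev K U).δ i w)

variable {f : L ⟶ K}

lemma SecOK.lifts {U W : C} {h : W ⟶ U} {s : ∀ k, (ev K U) _⦋k⦌ → (ev L W) _⦋k⦌} {k : ℕ} {w : (ev K U) _⦋k⦌}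
    (hs : SecOK f h s k w) : (evMap f W).app _ (s k w) = (res K h).app _ w := by
  cases k with
  | zero => exact hs
  | succ k => exact hs.1

lemma SecOK.congr {U W : C} {h : W ⟶ U} {s s' : ∀ k, (ev K U) _⦋k⦌ → (ev L W) _⦋k⦌} :
    ∀ {k : ℕ} {w : (ev K U) _⦋k⦌}, (∀ j, j ≤ k → s' j = s j) → SecOK f h s k w → SecOK f h s' k w := by
  intro k
  induction k with
  | zero => intro w e hw; unfold SecOK at hw ⊢; rw [e 0 le_rfl]; exact hw
  | succ k ih =>
    intro w e hw
    unfold SecOK at hw ⊢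
    rw [e (k + 1) le_rfl, e k (Nat.le_succ k)]
    exact ⟨hw.1, hw.2.1, fun i => ih (fun j hj => e j (hj.trans (Nat.le_succ k))) (hw.2.2 i)⟩

lemma SecOK.res {U W W' : C} {h : W ⟶ U} {s : ∀ k, (ev K U) _⦋k⦌ → (ev L W) _⦋k⦌} (h' : W' ⟶ W) :
    ∀ {k : ℕ} {w : (ev K U) _⦋k⦌}, SecOK f h s k w →
      SecOK f (h' ≫ h) (fun j y => (Hypercov.res L h').app _ (s j y)) k w := by
  intro k
  induction k with
  | zero =>
    intro w hw
    unfold SecOK at hw ⊢
    rw [evMap_res, hw, res_comp_apply]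
  | succ k ih =>
    rintro w ⟨h1, h2, h3⟩
    refine ⟨?_, fun i => ?_, fun i => ih (h3 i)⟩
    · rw [evMap_res, h1, res_comp_apply]
    · rw [← res_δ, h2]

variable (f) in
/-- local existence of sections -/
def secSieve {U : C} (k : ℕ) (S : Finset ((ev K U) _⦋k⦌)) : Sieve U where
  arrows W h := ∃ s, ∀ w ∈ S, SecOK f h s k w
  downward_closed := by
    rintro W W' h ⟨s, hs⟩ h'
    exact ⟨_, fun w hw => (hs w hw).res h'⟩

theorem secSieve_mem (hf : LocLift J f) {U : C} : ∀ (k : ℕ) (S : Finset ((ev K U) _⦋k⦌)),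
    secSieve f k S ∈ J U := by
  classical
  intro k
  induction k with
  | zero =>
    intro S
    obtain ⟨R, hR, hRS⟩ := forall_finset_mem J S (fun w => liftSieve₀ f w) fun w _ => hf.zero U w
    have key : ∀ ⦃W : C⦄ (h : W ⟶ U), R h → (∀ k, (ev K U) _⦋k⦌ → Nonempty ((ev L W) _⦋k⦌)) →
        ∀ s₀ : ∀ k, (ev K U) _⦋k⦌ → (ev L W) _⦋k⦌, (secSieve f 0 S).arrows h := by
      intro W h hh _ s₀
      have := hRS h hh
      choose l hl using this
      let s : ∀ k, (ev K U) _⦋k⦌ → (ev L W) _⦋k⦌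
        | 0, w => if hw : w ∈ S then l w hw else s₀ 0 w
        | k + 1, w => s₀ (k + 1) w
      refine ⟨s, fun w hw => ?_⟩
      unfold SecOK
      simp only [s, dif_pos hw]
      exact hl w hw
    refine J.transitive hR _ ?_
    intro W h hh
    rcases S.eq_empty_or_nonempty with rfl | ⟨w₀, hw₀⟩
    · by_cases hK : ∀ k, (ev K U) _⦋k⦌ → Nonempty ((ev L W) _⦋k⦌)
      · exact J.superset_covering (fun W' h' _ => (secSieve f 0 ∅).downward_closed
          (key h hh hK fun k w => (hK k w).some) h') (J.top_mem W)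
      · push Not at hK
        obtain ⟨k, w, hw⟩ := hK
        let v : (ev K U) _⦋0⦌ := (ev K U).map (SimplexCategory.const ⦋0⦌ ⦋k⦌ 0).op w
        refine J.superset_covering ?_ (hf.zero W ((res K h).app _ v))
        rintro W' h' ⟨l, -⟩
        exact ⟨fun j _ => (ev L W').map (SimplexCategory.const ⦋j⦌ ⦋0⦌ 0).op l, by simp⟩
    · obtain ⟨l, -⟩ := hRS h hh w₀ hw₀
      exact J.superset_covering (fun W' h' _ => (secSieve f 0 S).downward_closed
        (key h hh (fun k _ => ⟨(ev L W).map (SimplexCategory.const ⦋k⦌ ⦋0⦌ 0).op l⟩)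
          fun k _ => (ev L W).map (SimplexCategory.const ⦋k⦌ ⦋0⦌ 0).op l) h') (J.top_mem W)
  | succ k ih =>
    intro S
    refine J.transitive (ih (S.biUnion fun w => Finset.univ.image fun i => (ev K U).δ i w)) _ ?_
    rintro W h ⟨s, hs⟩
    have hs' : ∀ w ∈ S, ∀ i, SecOK f h s k ((ev K U).δ i w) := fun w hw i =>
      hs _ (Finset.mem_biUnion.2 ⟨w, hw, Finset.mem_image.2 ⟨i, Finset.mem_univ _, rfl⟩⟩)
    let y : (ev K U) _⦋k + 1⦌ → Fin (k + 2) → (ev L W) _⦋k⦌ := fun w i => s k ((ev K U).δ i w)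
    have hb : ∀ w ∈ S, IsBdry (y w) := by
      intro w hw
      cases k with
      | zero => exact isBdry_zero _
      | succ k =>
        refine isBdry_succ _ fun i j hij => ?_
        refine ((hs' w hw _).2.1 i).trans ((congrArg (s k) ?_).trans ((hs' w hw _).2.1 j).symm)
        exact ConcreteCategory.congr_hom ((ev K U).δ_comp_δ hij) w
    obtain ⟨R, hR, hRS⟩ := forall_finset_mem J S
      (fun w => liftSieve f ((res K h).app _ w) (y w)) fun w hw => by
        refine hf.succ W k _ (y w) (hb w hw) fun i => ?_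
        rw [← res_δ]
        exact (hs' w hw i).lifts
    refine J.superset_covering ?_ hR
    intro W' h' hh'
    have := hRS h' hh'
    choose! l hl hl' using this
    let s₁ : ∀ j, (ev K U) _⦋j⦌ → (ev L W') _⦋j⦌ := fun j w => (res L h').app _ (s j w)
    let s₂ : (ev K U) _⦋k + 1⦌ → (ev L W') _⦋k + 1⦌ :=
      fun w => if hw : w ∈ S then l w hw else s₁ (k + 1) w
    refine ⟨Function.update s₁ (k + 1) s₂, fun w hw => ?_⟩
    unfold SecOK
    rw [Function.update_self, Function.update_of_ne (Nat.succ_ne_self k).symm]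
    simp only [s₂, dif_pos hw]
    refine ⟨(hl' w hw).trans (res_comp_apply K h h' w).symm, fun i => hl w hw i, fun i => ?_⟩
    exact ((hs' w hw i).res h').congr fun j hj => Function.update_of_ne (by omega) _ _

/-! ### homotopy -/

/-- pairs over a simplex -/
abbrev SPr (L : SPre C) (W : C) (m : SimplexCategory) : SSet.{u} := prodS (ev L W) (SSet.stdSimplex.{u}.obj m)

/-- push along a map of simplices -/
noncomputable abbrev spush (L : SPre C) (W : C) {m' m : SimplexCategory} (a : m' ⟶ m) : SPr L W m' ⟶ SPr L W m :=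
  prodMap (𝟙 _) (SSet.stdSimplex.map a)

/-- the tautological pair -/
noncomputable def taut {W : C} {k : ℕ} (y : (ev L W) _⦋k⦌) : (SPr L W ⦋k⦌) _⦋k⦌ :=
  (y, SSet.stdSimplex.objEquiv.symm (𝟙 _))

/-- chains over a simplex of the base -/
noncomputable abbrev overCh (f : L ⟶ K) {U W : C} (h : W ⟶ U) {m : SimplexCategory} (w : (ev K U).obj (op m)) (k : ℕ) :
    AddSubgroup (Ch (SPr L W m) k) :=
  (simplexCone.{u} m).fibCh f (SSet.yonedaEquiv.symm w) h k

lemma spush_mem {U W : C} {h : W ⟶ U} {m' m : SimplexCategory} (a : m' ⟶ m) {w : (ev K U).obj (op m)}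
    {w' : (ev K U).obj (op m')} (e : w' = (ev K U).map a.op w) {k : ℕ} {z : Ch (SPr L W m') k}
    (hz : z ∈ overCh f h w' k) : chMap (spush L W a) k z ∈ overCh f h w k := by
  refine (AddSubgroup.closure_le (K := (overCh f h w k).comap (chMap (spush L W a) k))).2 ?_ hz
  rintro _ ⟨x, hx, rfl⟩
  refine AddSubgroup.subset_closure ⟨(spush L W a).app _ x, ?_, (chMap_of _ _ x).symm⟩
  refine Eq.trans hx (congrArg ((res K h).app _) ?_)
  show (ev K U).map (SSet.stdSimplex.objEquiv x.2).op w' =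
    (ev K U).map ((SSet.stdSimplex.objEquiv x.2) ≫ a).op w
  rw [e, op_comp, Functor.map_comp_apply]

/-- partial homotopies -/
def HOK (f : L ⟶ K) {U W : C} (h : W ⟶ U) (s : ∀ k, (ev K U) _⦋k⦌ → (ev L W) _⦋k⦌)
    (H : ∀ k, (ev L U) _⦋k⦌ → Ch (SPr L W ⦋k⦌) (k + 1)) : ∀ k, (ev L U) _⦋k⦌ → Prop
  | 0, x => H 0 x ∈ overCh f h ((evMap f U).app _ x) 1 ∧
      dch (SPr L W ⦋0⦌) 0 (H 0 x) = FreeAbelianGroup.of (taut ((res L h).app _ x)) -
        FreeAbelianGroup.of (taut (s 0 ((evMap f U).app _ x)))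
  | k + 1, x => H (k + 1) x ∈ overCh f h ((evMap f U).app _ x) (k + 2) ∧
      dch (SPr L W ⦋k + 1⦌) (k + 1) (H (k + 1) x) = FreeAbelianGroup.of (taut ((res L h).app _ x)) -
        FreeAbelianGroup.of (taut (s (k + 1) ((evMap f U).app _ x))) -
        ∑ i : Fin (k + 2), ((-1 : ℤ) ^ (i : ℕ)) • chMap (spush L W (SimplexCategory.δ i)) (k + 1) (H k ((ev L U).δ i x)) ∧
      ∀ i, HOK f h s H k ((ev L U).δ i x)

lemma HOK.congr {U W : C} {h : W ⟶ U} {s : ∀ k, (ev K U) _⦋k⦌ → (ev L W) _⦋k⦌}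
    {H H' : ∀ k, (ev L U) _⦋k⦌ → Ch (SPr L W ⦋k⦌) (k + 1)} :
    ∀ {k : ℕ} {x : (ev L U) _⦋k⦌}, (∀ j, j ≤ k → H' j = H j) → HOK f h s H k x → HOK f h s H' k x := by
  intro k
  induction k with
  | zero => intro w e hw; unfold HOK at hw ⊢; rw [e 0 le_rfl]; exact hw
  | succ k ih =>
    intro w e hw
    unfold HOK at hw ⊢
    rw [e (k + 1) le_rfl, e k (Nat.le_succ k)]
    exact ⟨hw.1, hw.2.1, fun i => ih (fun j hj => e j (hj.trans (Nat.le_succ k))) (hw.2.2 i)⟩

/-- restriction of pairs over a simplex -/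
noncomputable abbrev sres (L : SPre C) {W W' : C} (h' : W' ⟶ W) (m : SimplexCategory) : SPr L W m ⟶ SPr L W' m :=
  (simplexCone.{u} m).pres L h'

lemma overCh_res {U W W' : C} {h : W ⟶ U} (h' : W' ⟶ W) {m : SimplexCategory} {w : (ev K U).obj (op m)}
    {k : ℕ} {z : Ch (SPr L W m) k} (hz : z ∈ overCh f h w k) :
    chMap (sres L h' m) k z ∈ overCh f (h' ≫ h) w k := by
  refine (AddSubgroup.closure_le (K := (overCh f (h' ≫ h) w k).comap (chMap (sres L h' m) k))).2 ?_ hz
  rintro _ ⟨x, hx, rfl⟩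
  exact AddSubgroup.subset_closure ⟨_, ConeData.InFib.res hx h', (chMap_of _ _ x).symm⟩

lemma sres_taut {U W W' : C} (h : W ⟶ U) (h' : W' ⟶ W) {k : ℕ} (x : (ev L U) _⦋k⦌) :
    (sres L h' ⦋k⦌).app _ (taut ((res L h).app _ x)) = taut ((res L (h' ≫ h)).app _ x) :=
  Prod.ext (res_comp_apply L h h' x).symm rfl

lemma HOK.res {U W W' : C} {h : W ⟶ U} {s : ∀ k, (ev K U) _⦋k⦌ → (ev L W) _⦋k⦌}
    {H : ∀ k, (ev L U) _⦋k⦌ → Ch (SPr L W ⦋k⦌) (k + 1)} (h' : W' ⟶ W) :
    ∀ {k : ℕ} {x : (ev L U) _⦋k⦌}, HOK f h s H k x →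
      HOK f (h' ≫ h) (fun j y => (Hypercov.res L h').app _ (s j y))
        (fun j y => chMap (sres L h' ⦋j⦌) _ (H j y)) k x := by
  intro k
  induction k with
  | zero =>
    rintro x ⟨h1, h2⟩
    refine ⟨overCh_res h' h1, ?_⟩
    rw [← chMap_dch, h2, map_sub, chMap_of, chMap_of, sres_taut]
    rfl
  | succ k ih =>
    rintro x ⟨h1, h2, h3⟩
    refine ⟨overCh_res h' h1, ?_, fun i => ih (h3 i)⟩
    rw [← chMap_dch, h2, map_sub, map_sub, chMap_of, chMap_of, sres_taut, map_sum]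
    refine congrArg₂ (· - ·) rfl (Finset.sum_congr rfl fun i _ => ?_)
    rw [map_zsmul, ← chMap_comp, ← chMap_comp]
    congr 3

lemma spush_comp {W : C} {a b c : SimplexCategory} (p : a ⟶ b) (q : b ⟶ c) :
    spush L W p ≫ spush L W q = spush L W (p ≫ q) := by
  ext m x
  · rfl
  · show (SSet.stdSimplex.map q).app m ((SSet.stdSimplex.map p).app m x.2) = (SSet.stdSimplex.map (p ≫ q)).app m x.2
    rw [Functor.map_comp]
    rfl

lemma spush_taut {W : C} {k : ℕ} (i : Fin (k + 2)) (y : (ev L W) _⦋k + 1⦌) (y' : (ev L W) _⦋k⦌)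
    (e : (ev L W).δ i y = y') :
    (SPr L W ⦋k + 1⦌).δ i (taut y) = (spush L W (SimplexCategory.δ i)).app _ (taut y') := by
  refine Prod.ext e (SSet.stdSimplex.objEquiv.injective ?_)
  show SimplexCategory.δ i ≫ 𝟙 _ = 𝟙 _ ≫ SimplexCategory.δ i
  rw [Category.comp_id, Category.id_comp]

lemma taut_sub_cycle {W : C} {k : ℕ} (a b : (ev L W) _⦋k + 1⦌) (a' b' : Fin (k + 2) → (ev L W) _⦋k⦌)
    (ha : ∀ i, (ev L W).δ i a = a' i) (hb : ∀ i, (ev L W).δ i b = b' i) :
    dch (SPr L W ⦋k + 1⦌) k (FreeAbelianGroup.of (taut a) - FreeAbelianGroup.of (taut b)) =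
      ∑ i : Fin (k + 2), ((-1 : ℤ) ^ (i : ℕ)) • chMap (spush L W (SimplexCategory.δ i)) k
        (FreeAbelianGroup.of (taut (a' i)) - FreeAbelianGroup.of (taut (b' i))) := by
  rw [map_sub, dch_of, dch_of, ← Finset.sum_sub_distrib]
  refine Finset.sum_congr rfl fun i _ => ?_
  rw [spush_taut i a (a' i) (ha i), spush_taut i b (b' i) (hb i), map_sub, chMap_of, chMap_of, smul_sub]

/-- local existence of homotopies -/
def homSieve (f : L ⟶ K) {U W : C} (h : W ⟶ U) (s : ∀ k, (ev K U) _⦋k⦌ → (ev L W) _⦋k⦌) (k : ℕ)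
    (S : Finset ((ev L U) _⦋k⦌)) : Sieve W where
  arrows W' h' := ∃ H, ∀ x ∈ S, HOK f (h' ≫ h) (fun j y => (res L h').app _ (s j y)) H k x
  downward_closed := by
    rintro W' W'' h' ⟨H, hH⟩ h''
    refine ⟨fun j y => chMap (sres L h'' ⦋j⦌) _ (H j y), fun x hx => ?_⟩
    rw [Category.assoc, show (fun j y => (res L (h'' ≫ h')).app (op ⦋j⦌) (s j y)) =
      (fun j y => (res L h'').app (op ⦋j⦌) ((res L h').app (op ⦋j⦌) (s j y))) from
        funext fun j => funext fun y => res_comp_apply L h' h'' _]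
    exact (hH x hx).res h''

lemma evMap_δ (f : L ⟶ K) {U : C} {k : ℕ} (i : Fin (k + 2)) (x : (ev L U) _⦋k + 1⦌) :
    (evMap f U).app (op ⦋k⦌) ((ev L U).δ i x) = (ev K U).δ i ((evMap f U).app (op ⦋k + 1⦌) x) :=
  NatTrans.naturality_apply (evMap f U) _ x

lemma taut_mem {U W : C} {h : W ⟶ U} {k : ℕ} {w : (ev K U) _⦋k⦌} {y : (ev L W) _⦋k⦌}
    (hy : (evMap f W).app _ y = (res K h).app _ w) : FreeAbelianGroup.of (taut y) ∈ overCh f h w k :=
  AddSubgroup.subset_closure ⟨taut y, hy.trans (congrArg ((res K h).app _)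
    (Functor.map_id_apply (ev K U) _ w).symm), rfl⟩

lemma double_sum_zero {U W : C} {k : ℕ} (x : (ev L U) _⦋k + 2⦌)
    (H : (ev L U) _⦋k⦌ → Ch (SPr L W ⦋k⦌) (k + 1)) :
    ∑ i : Fin (k + 3), ((-1 : ℤ) ^ (i : ℕ)) • chMap (spush L W (SimplexCategory.δ i)) (k + 1)
      (∑ j : Fin (k + 2), ((-1 : ℤ) ^ (j : ℕ)) • chMap (spush L W (SimplexCategory.δ j)) (k + 1)
        (H ((ev L U).δ j ((ev L U).δ i x)))) = 0 := by
  let B : SSet.{u} := SSet.stdSimplex.obj ⦋k + 2⦌
  let G : Ch B k →+ Ch (SPr L W ⦋k + 2⦌) (k + 1) := FreeAbelianGroup.lift fun a =>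
    chMap (spush L W (SSet.stdSimplex.objEquiv a)) (k + 1) (H ((ev L U).map (SSet.stdSimplex.objEquiv a).op x))
  have h0 := congrArg G (dch_dch B k (FreeAbelianGroup.of (SSet.stdSimplex.objEquiv.symm (𝟙 _))))
  rw [map_zero, dch_of, map_sum, map_sum] at h0
  refine Eq.trans (Finset.sum_congr rfl fun i _ => ?_) h0
  rw [map_zsmul, map_zsmul, dch_of]
  simp only [map_sum, map_zsmul, G]
  rw [Finset.smul_sum, Finset.smul_sum]
  refine Finset.sum_congr rfl fun j _ => ?_
  refine congrArg (fun t => ((-1 : ℤ) ^ (i : ℕ)) • (((-1 : ℤ) ^ (j : ℕ)) • t)) ?_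
  refine Eq.trans ?_ (FreeAbelianGroup.lift_apply_of _ _).symm
  rw [← chMap_comp, spush_comp]
  have e : SSet.stdSimplex.objEquiv (B.δ j (B.δ i (SSet.stdSimplex.objEquiv.symm (𝟙 _)))) =
      SimplexCategory.δ j ≫ SimplexCategory.δ i := by
    show SimplexCategory.δ j ≫ SimplexCategory.δ i ≫ 𝟙 _ = _
    rw [Category.comp_id]
  rw [e, op_comp, Functor.map_comp_apply]
  rfl

lemma isCyc_sub_of {X : SSet.{u}} (a b : X _⦋0⦌) :
    ConeData.IsCyc X 0 (FreeAbelianGroup.of a - FreeAbelianGroup.of b) := by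
  show aug _ = 0
  rw [map_sub, show aug (FreeAbelianGroup.of a) = 1 from FreeAbelianGroup.lift_apply_of _ a,
    show aug (FreeAbelianGroup.of b) = 1 from FreeAbelianGroup.lift_apply_of _ b, sub_self]

theorem homSieve_mem (hf : LocLift J f) {U W : C} (h : W ⟶ U)
    (s : ∀ k, (ev K U) _⦋k⦌ → (ev L W) _⦋k⦌) : ∀ (k : ℕ) (S : Finset ((ev L U) _⦋k⦌)),
    (∀ x ∈ S, SecOK f h s k ((evMap f U).app _ x)) → homSieve f h s k S ∈ J W := by
  classical
  intro k
  induction k with
  | zero =>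
    intro S hS
    let ξ : (ev L U) _⦋0⦌ → Ch (SPr L W ⦋0⦌) 0 := fun x =>
      FreeAbelianGroup.of (taut ((res L h).app _ x)) - FreeAbelianGroup.of (taut (s 0 ((evMap f U).app _ x)))
    obtain ⟨R, hR, hRS⟩ := forall_finset_mem J S
      (fun x => (simplexCone.{u} ⦋0⦌).bdSieve f (SSet.yonedaEquiv.symm ((evMap f U).app _ x)) h 0 (ξ x))
      fun x hx => by
        have hm : ξ x ∈ overCh f h ((evMap f U).app (op ⦋0⦌) x) 0 :=
          sub_mem (taut_mem (evMap_res f h x)) (taut_mem (hS x hx).lifts)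
        exact ConeData.bdSieve_mem (D := simplexCone.{u} ⦋0⦌) (β := SSet.yonedaEquiv.symm ((evMap f U).app (op ⦋0⦌) x))
          hf h 0 (ξ x) hm (isCyc_sub_of _ _)
    refine J.superset_covering ?_ hR
    intro W' h' hh'
    have := hRS h' hh'
    choose! w hw hw' using this
    let H : ∀ k, (ev L U) _⦋k⦌ → Ch (SPr L W' ⦋k⦌) (k + 1)
      | 0, x => w x
      | k + 1, x => 0
    refine ⟨H, fun x hx => ?_⟩
    unfold HOK
    simp only [H]
    refine ⟨hw x hx, (hw' x hx).trans ?_⟩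
    show chMap (sres L h' ⦋0⦌) 0 (ξ x) = _
    rw [map_sub, chMap_of, chMap_of, sres_taut]
    rfl
  | succ k ih =>
    intro S hS
    refine J.transitive (ih (S.biUnion fun x => Finset.univ.image fun i => (ev L U).δ i x) (by
      intro y hy
      simp only [Finset.mem_biUnion, Finset.mem_image, Finset.mem_univ, true_and] at hy
      obtain ⟨x, hx, i, rfl⟩ := hy
      rw [evMap_δ]
      exact (hS x hx).2.2 i)) _ ?_
    rintro W' h' ⟨H, hH⟩
    let s' : ∀ j, (ev K U) _⦋j⦌ → (ev L W') _⦋j⦌ := fun j y => (res L h').app _ (s j y)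
    have hs' : ∀ x ∈ S, SecOK f (h' ≫ h) s' (k + 1) ((evMap f U).app _ x) := fun x hx => (hS x hx).res h'
    have hH' : ∀ x ∈ S, ∀ i, HOK f (h' ≫ h) s' H k ((ev L U).δ i x) := fun x hx i =>
      hH _ (Finset.mem_biUnion.2 ⟨x, hx, Finset.mem_image.2 ⟨i, Finset.mem_univ _, rfl⟩⟩)
    let ξ : (ev L U) _⦋k + 1⦌ → Ch (SPr L W' ⦋k + 1⦌) (k + 1) := fun x =>
      FreeAbelianGroup.of (taut ((res L (h' ≫ h)).app _ x)) -
        FreeAbelianGroup.of (taut (s' (k + 1) ((evMap f U).app _ x))) -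
        ∑ i : Fin (k + 2), ((-1 : ℤ) ^ (i : ℕ)) • chMap (spush L W' (SimplexCategory.δ i)) (k + 1) (H k ((ev L U).δ i x))
    have hmem : ∀ x ∈ S, ξ x ∈ overCh f (h' ≫ h) ((evMap f U).app _ x) (k + 1) := fun x hx => by
      refine sub_mem (sub_mem (taut_mem (evMap_res f _ x)) (taut_mem (hs' x hx).lifts))
        (sum_mem fun i _ => zsmul_mem (spush_mem _ (evMap_δ f i x) ?_) _)
      have := hH' x hx i
      cases k with
      | zero => exact this.1
      | succ k => exact this.1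
    have hcyc : ∀ x ∈ S, ConeData.IsCyc (SPr L W' ⦋k + 1⦌) (k + 1) (ξ x) := fun x hx => by
      show dch _ k (ξ x) = 0
      simp only [ξ]
      rw [map_sub, taut_sub_cycle _ _ (fun i => (res L (h' ≫ h)).app _ ((ev L U).δ i x))
        (fun i => s' k ((evMap f U).app _ ((ev L U).δ i x))) (fun i => (res_δ L _ i x).symm)
        (fun i => ((hs' x hx).2.1 i).trans (congrArg (s' k) (evMap_δ f i x).symm)),
        map_sum, sub_eq_zero]
      cases k with
      | zero =>
        refine Finset.sum_congr rfl fun i _ => ?_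
        rw [map_zsmul, ← chMap_dch, (hH' x hx i).2]
      | succ k =>
        have e : ∀ i : Fin (k + 3), dch (SPr L W' ⦋k + 2⦌) (k + 1)
            (((-1 : ℤ) ^ (i : ℕ)) • chMap (spush L W' (SimplexCategory.δ i)) (k + 2) (H (k + 1) ((ev L U).δ i x))) =
            ((-1 : ℤ) ^ (i : ℕ)) • chMap (spush L W' (SimplexCategory.δ i)) (k + 1)
              (FreeAbelianGroup.of (taut ((res L (h' ≫ h)).app _ ((ev L U).δ i x))) -
                FreeAbelianGroup.of (taut (s' (k + 1) ((evMap f U).app _ ((ev L U).δ i x))))) -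
            ((-1 : ℤ) ^ (i : ℕ)) • chMap (spush L W' (SimplexCategory.δ i)) (k + 1)
              (∑ j : Fin (k + 2), ((-1 : ℤ) ^ (j : ℕ)) • chMap (spush L W' (SimplexCategory.δ j)) (k + 1)
                (H k ((ev L U).δ j ((ev L U).δ i x)))) := fun i => by
          rw [map_zsmul, ← chMap_dch, (hH' x hx i).2.1, map_sub, smul_sub]
        rw [Finset.sum_congr rfl fun i _ => e i, Finset.sum_sub_distrib, double_sum_zero x (H k), sub_zero]
    obtain ⟨R, hR, hRS⟩ := forall_finset_mem J S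
      (fun x => (simplexCone.{u} ⦋k + 1⦌).bdSieve f (SSet.yonedaEquiv.symm ((evMap f U).app _ x)) (h' ≫ h) (k + 1) (ξ x))
      fun x hx => ConeData.bdSieve_mem (D := simplexCone.{u} ⦋k + 1⦌)
        (β := SSet.yonedaEquiv.symm ((evMap f U).app (op ⦋k + 1⦌) x)) hf (h' ≫ h) (k + 1) (ξ x) (hmem x hx) (hcyc x hx)
    refine J.superset_covering ?_ hR
    intro W'' h'' hh''
    have := hRS h'' hh''
    choose! w hw hw' using this
    let H₁ : ∀ j, (ev L U) _⦋j⦌ → Ch (SPr L W'' ⦋j⦌) (j + 1) := fun j y => chMap (sres L h'' ⦋j⦌) _ (H j y)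
    let H₂ : (ev L U) _⦋k + 1⦌ → Ch (SPr L W'' ⦋k + 1⦌) (k + 2) := w
    refine ⟨Function.update H₁ (k + 1) H₂, fun x hx => ?_⟩
    rw [Category.assoc, show (fun j y => (res L (h'' ≫ h')).app (op ⦋j⦌) (s j y)) =
      (fun j y => (res L h'').app (op ⦋j⦌) (s' j y)) from
        funext fun j => funext fun y => res_comp_apply L h' h'' _]
    unfold HOK
    rw [Function.update_self, Function.update_of_ne (Nat.succ_ne_self k).symm]
    simp only [H₂]
    refine ⟨hw x hx, (hw' x hx).trans ?_, fun i => ?_⟩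
    · show chMap (sres L h'' ⦋k + 1⦌) (k + 1) (ξ x) = _
      simp only [ξ]
      rw [map_sub, map_sub, chMap_of, chMap_of, sres_taut, map_sum]
      refine congrArg₂ (· - ·) rfl (Finset.sum_congr rfl fun i _ => ?_)
      rw [map_zsmul, ← chMap_comp]
      simp only [H₁]
      rw [← chMap_comp]
      congr 3
    · exact ((hH' x hx i).res h'').congr fun j hj => Function.update_of_ne (by omega) _ _

/-! ### homology -/

/-- the projection -/
def sfst (L : SPre C) (W : C) (m : SimplexCategory) : SPr L W m ⟶ ev L W where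
  app p := ↾fun x => x.1

/-- cycles (no condition in degree zero) -/
def IsCyc₀ (X : SSet.{u}) : ∀ k, Ch X k → Prop
  | 0, _ => True
  | k + 1, z => dch X k z = 0

theorem LocLift.exists_lift (hf : LocLift J f) {U : C} {k : ℕ} (w : (ev K U) _⦋k⦌) :
    ∃ R ∈ J U, ∀ ⦃W : C⦄ (h : W ⟶ U), R h → ∃ l, (evMap f W).app _ l = (res K h).app _ w :=
  ⟨_, secSieve_mem hf k {w}, fun W h ⟨s, hs⟩ => ⟨s k w, (hs w (Finset.mem_singleton_self w)).lifts⟩⟩

lemma SecOK.map_dch {U W : C} {h : W ⟶ U} {s : ∀ k, (ev K U) _⦋k⦌ → (ev L W) _⦋k⦌} {k : ℕ}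
    {S : Finset ((ev K U) _⦋k + 1⦌)} (hS : ∀ w ∈ S, SecOK f h s (k + 1) w)
    {z : Ch (ev K U) (k + 1)} (hz : z ∈ AddSubgroup.closure (FreeAbelianGroup.of '' (S : Set _))) :
    dch (ev L W) k (FreeAbelianGroup.map (s (k + 1)) z) = FreeAbelianGroup.map (s k) (dch (ev K U) k z) :=
  eq_of_eq_on_of (f := (dch (ev L W) k).comp (FreeAbelianGroup.map (s (k + 1))))
    (g := (FreeAbelianGroup.map (s k)).comp (dch (ev K U) k)) (fun w hw => by
      simp only [AddMonoidHom.comp_apply, FreeAbelianGroup.map_of_apply, dch_of, map_sum, map_zsmul]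
      exact Finset.sum_congr rfl fun i _ => by rw [(hS w hw).2.1 i]) hz

/-- local surjectivity on cycles -/
theorem LocLift.surjective_cycles (hf : LocLift J f) {U : C} {k : ℕ} (z : Ch (ev K U) k) (hz : IsCyc₀ _ k z) :
    ∃ R ∈ J U, ∀ ⦃W : C⦄ (h : W ⟶ U), R h → ∃ z', IsCyc₀ (ev L W) k z' ∧
      chMap (evMap f W) k z' = chMap (res K h) k z := by
  obtain ⟨S, hS⟩ := exists_finset z
  refine ⟨_, secSieve_mem hf k S, ?_⟩
  rintro W h ⟨s, hs⟩
  refine ⟨FreeAbelianGroup.map (s k) z, ?_, ?_⟩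
  · cases k with
    | zero => trivial
    | succ k =>
      show dch _ k _ = 0
      rw [SecOK.map_dch hs hS, show dch (ev K U) k z = 0 from hz, map_zero]
  · exact eq_of_eq_on_of (f := (chMap (evMap f W) k).comp (FreeAbelianGroup.map (s k))) (g := chMap (res K h) k)
      (fun w hw => by
        simp only [AddMonoidHom.comp_apply, FreeAbelianGroup.map_of_apply, chMap_of]
        rw [(hs w hw).lifts]) hS

/-- local injectivity on homology -/
theorem LocLift.injective_homology (hf : LocLift J f) {U : C} {k : ℕ} (z : Ch (ev L U) k) (hz : IsCyc₀ _ k z)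
    (u : Ch (ev K U) (k + 1)) (hu : dch (ev K U) k u = chMap (evMap f U) k z) :
    ∃ R ∈ J U, ∀ ⦃W : C⦄ (h : W ⟶ U), R h → ∃ w, dch (ev L W) k w = chMap (res L h) k z := by
  classical
  obtain ⟨S, hS⟩ := exists_finset z
  obtain ⟨T, hT⟩ := exists_finset u
  let T' := T ∪ S.image fun x => (ev K U).σ 0 ((evMap f U).app _ x)
  let R : Sieve U :=
    { arrows := fun W h => ∃ w, dch (ev L W) k w = chMap (res L h) k z
      downward_closed := by
        rintro W W' h ⟨w, hw⟩ h'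
        refine ⟨chMap (res L h') (k + 1) w, ?_⟩
        rw [← chMap_dch, hw, ← chMap_comp]
        congr 2
        ext m x
        exact (res_comp_apply L h h' x).symm }
  refine ⟨R, J.transitive (secSieve_mem hf (k + 1) T') R ?_, fun W h hh => hh⟩
  rintro W h ⟨s, hs⟩
  have hsx : ∀ x ∈ S, SecOK f h s k ((evMap f U).app _ x) := fun x hx => by
    have := (hs _ (Finset.mem_union_right _ (Finset.mem_image_of_mem _ hx))).2.2 0
    rwa [show (ev K U).δ 0 ((ev K U).σ 0 ((evMap f U).app _ x)) = (evMap f U).app _ x from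
      ConcreteCategory.congr_hom ((ev K U).δ_comp_σ_self (i := (0 : Fin (k + 1)))) _] at this
  refine J.superset_covering ?_ (homSieve_mem hf h s k S hsx)
  rintro W' h' ⟨H, hH⟩
  let s' : ∀ j, (ev K U) _⦋j⦌ → (ev L W') _⦋j⦌ := fun j y => (res L h').app _ (s j y)
  let hh : ∀ j, (ev L U) _⦋j⦌ → Ch (ev L W') (j + 1) := fun j x => chMap (sfst L W' ⦋j⦌) _ (H j x)
  refine ⟨FreeAbelianGroup.map (s' (k + 1)) u + FreeAbelianGroup.lift (hh k) z, ?_⟩
  have hfst : ∀ j (y : (ev L W') _⦋j⦌),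
      chMap (sfst L W' ⦋j⦌) j (FreeAbelianGroup.of (taut y)) = FreeAbelianGroup.of y := fun j y => chMap_of _ _ _
  rw [map_add, SecOK.map_dch (S := T') (fun w hw => (hs w hw).res h')
    (AddSubgroup.closure_mono (Set.image_mono (by simp [T'])) hT), hu]
  cases k with
  | zero =>
    refine eq_of_eq_on_of (f := (FreeAbelianGroup.map (s' 0)).comp (chMap (evMap f U) 0) +
      (dch (ev L W') 0).comp (FreeAbelianGroup.lift (hh 0))) (g := chMap (res L (h' ≫ h)) 0) (fun x hx => ?_) hS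
    simp only [AddMonoidHom.add_apply, AddMonoidHom.comp_apply, chMap_of, FreeAbelianGroup.map_of_apply,
      FreeAbelianGroup.lift_apply_of, hh]
    rw [← chMap_dch, (hH x hx).2, map_sub, hfst, hfst]
    exact add_sub_cancel _ _
  | succ k =>
    have key := eq_of_eq_on_of (f := (FreeAbelianGroup.map (s' (k + 1))).comp (chMap (evMap f U) (k + 1)) +
      (dch (ev L W') (k + 1)).comp (FreeAbelianGroup.lift (hh (k + 1)))) (g := chMap (res L (h' ≫ h)) (k + 1) -
      (FreeAbelianGroup.lift (hh k)).comp (dch (ev L U) k)) (fun x hx => by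
        simp only [AddMonoidHom.add_apply, AddMonoidHom.sub_apply, AddMonoidHom.comp_apply, chMap_of,
          FreeAbelianGroup.map_of_apply, FreeAbelianGroup.lift_apply_of, hh, dch_of (ev L U), map_sum, map_zsmul]
        rw [← chMap_dch, (hH x hx).2.1, map_sub, map_sub, hfst, hfst, map_sum]
        simp only [map_zsmul, ← chMap_comp]
        rw [add_sub, add_sub_cancel]
        refine congrArg₂ (· - ·) rfl (Finset.sum_congr rfl fun i _ => ?_)
        congr 2) hS
    simp only [AddMonoidHom.add_apply, AddMonoidHom.sub_apply, AddMonoidHom.comp_apply] at key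
    rw [show dch (ev L U) k z = 0 from hz, map_zero, sub_zero] at key
    exact key

end Groth.Agent.Hypercov
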