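import Groth.Agent.Hypercov.SS

/-! # Hypercoverings of an object and hypercoverings of the final object of the localised site -/

set_option autoImplicit false
set_option linter.all false
set_option backward.isDefEq.respectTransparency false
set_option backward.defeqAttrib.useBackward true

universe u

open CategoryTheory CategoryTheory.Limits Opposite Simplicial AlgebraicTopology

namespace Groth.Agent.Hypercov

section general

variable {C : Type u} [SmallCategory C] {J : GrothendieckTopology C}

/-- a section of a coproduct of representables -/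
noncomputable def sigmaEl (L : FormalCoproduct.{u} C) {U : C} (j : L.I) (g : U ⟶ L.obj j) :
    (FormalCoproduct.yoneda.{u}.obj L).obj (op U) :=
  (Sigma.ι (fun i => yoneda.obj (L.obj i)) j).app (op U) g

lemma sigmaPtsIso_apply (L : FormalCoproduct.{u} C) {U : C} (x : Σ j, U ⟶ L.obj j) :
    (sigmaPtsIso U).hom.app L x = sigmaEl L x.1 x.2 :=
  ConcreteCategory.congr_hom (show Sigma.ι (fun i => (pt U).obj (yoneda.obj (L.obj i))) x.1 ≫
    (PreservesCoproduct.iso (pt U) fun i => yoneda.obj (L.obj i)).inv = (pt U).map (Sigma.ι (fun i => yoneda.obj (L.obj i)) x.1) from by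
      rw [PreservesCoproduct.inv_hom]; exact ι_comp_sigmaComparison (pt U) _ x.1) x.2

lemma exists_sigmaEl (L : FormalCoproduct.{u} C) {U : C} (z : (FormalCoproduct.yoneda.{u}.obj L).obj (op U)) :
    ∃ j g, z = sigmaEl L (U := U) j g := by
  let x := (sigmaPtsIso U).inv.app L z
  refine ⟨x.1, x.2, ?_⟩
  rw [← sigmaPtsIso_apply L x]
  exact (ConcreteCategory.congr_hom ((sigmaPtsIso U).app L).inv_hom_id z).symm

lemma sigmaEl_res (L : FormalCoproduct.{u} C) {U V : C} (j : L.I) (g : U ⟶ L.obj j) (h : V ⟶ U) :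
    (FormalCoproduct.yoneda.{u}.obj L).map h.op (sigmaEl L j g) = sigmaEl L j (h ≫ g) :=
  (NatTrans.naturality_apply (Sigma.ι (fun i => yoneda.obj (L.obj i)) j) h.op g).symm

lemma sigmaEl_map {K L : FormalCoproduct.{u} C} (f : K ⟶ L) {U : C} (i : K.I) (g : U ⟶ K.obj i) :
    (FormalCoproduct.yoneda.map f).app (op U) (sigmaEl K i g) = sigmaEl L (f.f i) (g ≫ f.φ i) :=
  ConcreteCategory.congr_hom (NatTrans.congr_app (show Sigma.ι (fun i => yoneda.obj (K.obj i)) i ≫
    FormalCoproduct.yoneda.map f = yoneda.map (f.φ i) ≫ Sigma.ι (fun i => yoneda.obj (L.obj i)) (f.f i) from by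
      simp [FormalCoproduct.eval, Function.comp_def]) (op U)) g

lemma sigmaEl_eqToHom (L : FormalCoproduct.{u} C) {U : C} {j j' : L.I} (e : j = j') (g : U ⟶ L.obj j) :
    sigmaEl L j g = sigmaEl L j' (g ≫ eqToHom (congrArg L.obj e)) := by
  subst e
  rw [eqToHom_refl, Category.comp_id]

/-- coverings of formal coproducts give locally surjective maps -/
theorem isLocallySurjective_yoneda_map {K L : FormalCoproduct.{u} C} (f : K ⟶ L) (hf : Hyper.IsSRCovering J f) :
    Presheaf.IsLocallySurjective J (FormalCoproduct.yoneda.map f) where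
  imageSieve_mem {U} z := by
    obtain ⟨j, g, rfl⟩ := exists_sigmaEl L z
    refine J.superset_covering ?_ (J.pullback_stable g (hf j))
    intro V h hh
    rw [Sieve.pullback_apply, Sieve.mem_ofArrows_iff] at hh
    obtain ⟨⟨i, hi⟩, t, ht⟩ := hh
    refine ⟨sigmaEl K i t, ?_⟩
    refine (sigmaEl_map f i t).trans (((sigmaEl_eqToHom L hi (t ≫ f.φ i)).trans ?_).trans (sigmaEl_res L j g h).symm)
    rw [Category.assoc, ← ht]

theorem locLift_of_unit (K : SimplicialObject (FormalCoproduct.{u} C))
    [∀ (n : ℕ) (F : (SimplexCategory.Truncated n)ᵒᵖ ⥤ FormalCoproduct.{u} C),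
      (SimplexCategory.Truncated.inclusion n).op.HasRightKanExtension F]
    (h0 : Presheaf.IsLocallySurjective J (terminal.from (FormalCoproduct.yoneda.{u}.obj (K.obj (op ⦋0⦌)))))
    (h2 : ∀ n : ℕ, Presheaf.IsLocallySurjective J
      (FormalCoproduct.yoneda.{u}.map (((SimplicialObject.coskAdj n).unit.app K).app (op ⦋n + 1⦌)))) :
    LocLift J (toOne (K ⋙ FormalCoproduct.yoneda.{u})) := by
  refine ⟨fun U w => ?_, fun U k w y hy _ => ?_⟩
  · let s : (⊤_ (Cᵒᵖ ⥤ Type u)).obj (op U) := (terminal.from (onePre C)).app (op U) PUnit.unit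
    haveI := h0
    refine J.superset_covering ?_ (Presheaf.imageSieve_mem J
      (terminal.from (FormalCoproduct.yoneda.{u}.obj (K.obj (op ⦋0⦌)))) s)
    rintro V g ⟨l, -⟩
    exact ⟨l, rfl⟩
  · obtain ⟨t, ht⟩ := (coskTr_bijective k (yonedaPtsAdj U) K ⦋k + 1⦌).2 (bdryTr le_rfl y hy)
    haveI := h2 k
    refine J.superset_covering ?_ (Presheaf.imageSieve_mem J
      (FormalCoproduct.yoneda.{u}.map (((SimplicialObject.coskAdj k).unit.app K).app (op ⦋k + 1⦌))) (U := op U) t)
    rintro V g ⟨l, hl⟩
    refine ⟨l, fun i => ?_, rfl⟩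
    have e : trOf (X := ev (K ⋙ FormalCoproduct.yoneda.{u}) V) k l =
        bdryTr le_rfl (fun i => (res (K ⋙ FormalCoproduct.yoneda.{u}) g).app _ (y i)) (hy.map _) := by
      refine (coskTr_unit (R := FormalCoproduct.yoneda.{u} ⋙ pt V) k K l).symm.trans ?_
      refine (congrArg (coskTr _ k K) hl).trans ?_
      refine (coskTr_natural (Functor.whiskerLeft FormalCoproduct.yoneda.{u}
        ((evaluation Cᵒᵖ (Type u)).map g.op)) k K t).trans ?_
      rw [ht]
      exact bdryTr_natural (res (K ⋙ FormalCoproduct.yoneda.{u}) g) le_rfl hy (hy.map _) (fun i => rfl)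
    have := trOf_apply_eq (δ_trOf_of_trOf_eq le_rfl e i) (p := ⦋k⦌) le_rfl (𝟙 _)
    rw [op_id, Functor.map_id_apply, Functor.map_id_apply] at this
    exact this

theorem isLocallySurjective_prodLift (K : SimplicialObject (FormalCoproduct.{u} C))
    (hL : LocLift J (toOne (K ⋙ FormalCoproduct.yoneda.{u}))) :
    Presheaf.IsLocallySurjective J
      (prod.lift (FormalCoproduct.yoneda.map (K.δ (1 : Fin 2))) (FormalCoproduct.yoneda.map (K.δ (0 : Fin 2)))) where
  imageSieve_mem {U} z := by
    let P := FormalCoproduct.yoneda.{u}.obj (K.obj (op ⦋0⦌))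
    let y : Fin 2 → (ev (K ⋙ FormalCoproduct.yoneda.{u}) U) _⦋0⦌ :=
      ![(prod.snd : P ⨯ P ⟶ P).app (op U) z, (prod.fst : P ⨯ P ⟶ P).app (op U) z]
    refine J.superset_covering ?_ (hL.succ U 0 PUnit.unit y (isBdry_zero y) fun _ => rfl)
    rintro V g ⟨l, hl, -⟩
    refine ⟨l, yonedaEquiv.symm.injective (prod.hom_ext ?_ ?_)⟩ <;> refine yonedaEquiv.injective ?_ <;>
      simp only [yonedaEquiv_comp, Equiv.apply_symm_apply]
    · refine (ConcreteCategory.congr_hom (NatTrans.congr_app (prod.lift_fst (FormalCoproduct.yoneda.map (K.δ (1 : Fin 2))) (FormalCoproduct.yoneda.map (K.δ (0 : Fin 2)))) (op V)) l).trans ?_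
      exact (hl 1).trans (NatTrans.naturality_apply (prod.fst : P ⨯ P ⟶ P) g.op z).symm
    · refine (ConcreteCategory.congr_hom (NatTrans.congr_app (prod.lift_snd (FormalCoproduct.yoneda.map (K.δ (1 : Fin 2))) (FormalCoproduct.yoneda.map (K.δ (0 : Fin 2)))) (op V)) l).trans ?_
      exact (hl 0).trans (NatTrans.naturality_apply (prod.snd : P ⨯ P ⟶ P) g.op z).symm

end general

section overSite

variable {C : Type u} [SmallCategory C] {J : GrothendieckTopology C} {X : C}

theorem isLocallySurjective_terminal_from (K₀ : FormalCoproduct.{u} (Over X))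
    (h : Sieve.ofArrows (fun i => (K₀.obj i).left) (fun i => (K₀.obj i).hom) ∈ J X) :
    Presheaf.IsLocallySurjective (J.over X) (terminal.from (FormalCoproduct.yoneda.{u}.obj K₀)) where
  imageSieve_mem {U} s := by
    rw [GrothendieckTopology.mem_over_iff]
    refine J.superset_covering ?_ (J.pullback_stable U.hom h)
    intro W q hq
    rw [Sieve.pullback_apply, Sieve.mem_ofArrows_iff] at hq
    obtain ⟨i, t, ht⟩ := hq
    rw [Sieve.overEquiv_iff]
    refine ⟨sigmaEl K₀ i (Over.homMk t ht.symm : Over.mk (q ≫ U.hom) ⟶ K₀.obj i), ?_⟩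
    exact yonedaEquiv.symm.injective (terminal.hom_ext _ _)

variable (K : SimplicialObject (FormalCoproduct.{u} (Over X)))
    [∀ (n : ℕ) (F : (SimplexCategory.Truncated n)ᵒᵖ ⥤ FormalCoproduct.{u} (Over X)),
      (SimplexCategory.Truncated.inclusion n).op.HasRightKanExtension F]

theorem locLift_over (hK : Hyper.IsHypercovering J X K) :
    LocLift (J.over X) (toOne (K ⋙ FormalCoproduct.yoneda.{u})) :=
  locLift_of_unit K (isLocallySurjective_terminal_from _ hK.1) fun n => isLocallySurjective_yoneda_map _ (hK.2 n)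

theorem isHypercoveringSite_over (hK : Hyper.IsHypercovering J X K) : Hyper.IsHypercoveringSite (J.over X) K :=
  ⟨isLocallySurjective_terminal_from _ hK.1, isLocallySurjective_prodLift K (locLift_over K hK),
    fun n _ => isLocallySurjective_yoneda_map _ (hK.2 n)⟩

end overSite

end Groth.Agent.Hypercov
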