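import Groth.Agent.Hypercov.Over
import Groth.Agent.SiteCoh.OverExt

/-! # Čech cohomology of hypercoverings of an object -/

set_option autoImplicit false
set_option linter.all false
set_option backward.isDefEq.respectTransparency false
set_option backward.defeqAttrib.useBackward true

universe v' u' v'' u'' v''' u''' u

open CategoryTheory CategoryTheory.Limits Opposite Simplicial AlgebraicTopology

namespace Groth.Agent.Hypercov

section acyclic

variable {A : Type u'} [Category.{v'} A] [Abelian A] [HasInjectiveResolutions A] [EnoughInjectives A]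
  {B : Type u''} [Category.{v''} B] [Abelian B] [HasInjectiveResolutions B]
  {D : Type u'''} [Category.{v'''} D] [Abelian D]

/-- images of doubly acyclic objects are acyclic -/
theorem isAcyclicObj_map (T : A ⥤ B) [T.Additive] [PreservesFiniteLimits T] (S : B ⥤ D) [S.Additive]
    [PreservesFiniteLimits S] (hT : ∀ Q : A, Injective Q → GrothSS.IsAcyclicObj S (T.obj Q))
    {X : A} (h1 : GrothSS.IsAcyclicObj T X) (h2 : GrothSS.IsAcyclicObj (T ⋙ S) X) :
    GrothSS.IsAcyclicObj S (T.obj X) := by
  intro p
  induction p generalizing X with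
  | zero =>
    let ip := (EnoughInjectives.presentation X).some
    haveI := ip.mono
    let E : ShortComplex A := ShortComplex.mk ip.f (cokernel.π ip.f) (cokernel.condition _)
    have hE : E.ShortExact :=
      { exact := ShortComplex.exact_of_g_is_cokernel _ (cokernelIsCokernel _)
        mono_f := ip.mono
        epi_g := inferInstanceAs (Epi (cokernel.π ip.f)) }
    haveI hg : Epi (T.map E.g) := by
      haveI : Epi ((T.rightDerived 0).map E.g) :=
        ((RDerLES.derivedLES T).exact₃ E hE 0 1 rfl).epi_f ((h1 0).eq_of_tgt _ _)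
      rw [show T.map E.g = T.rightDerivedZeroIsoSelf.inv.app _ ≫ (T.rightDerived 0).map E.g ≫
        T.rightDerivedZeroIsoSelf.hom.app _ by rw [T.rightDerivedZeroIsoSelf.hom.naturality, Iso.inv_hom_id_app_assoc]]
      infer_instance
    have hTE : (E.map T).ShortExact :=
      { exact := ((Functor.preservesFiniteLimits_iff_forall_exact_map_and_mono T).1 inferInstance E hE).1
        mono_f := ((Functor.preservesFiniteLimits_iff_forall_exact_map_and_mono T).1 inferInstance E hE).2
        epi_g := hg }
    haveI : Epi ((S.rightDerived 0).map (E.map T).g) := by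
      haveI hTS : Epi (((T ⋙ S).rightDerived 0).map E.g) :=
        ((RDerLES.derivedLES (T ⋙ S)).exact₃ E hE 0 1 rfl).epi_f ((h2 0).eq_of_tgt _ _)
      haveI : Epi ((T ⋙ S).map E.g) := by
        rw [show (T ⋙ S).map E.g = (T ⋙ S).rightDerivedZeroIsoSelf.inv.app _ ≫ ((T ⋙ S).rightDerived 0).map E.g ≫
          (T ⋙ S).rightDerivedZeroIsoSelf.hom.app _ by
            rw [(T ⋙ S).rightDerivedZeroIsoSelf.hom.naturality, Iso.inv_hom_id_app_assoc]]
        infer_instance
      haveI : Epi (S.map (E.map T).g) := this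
      rw [show (S.rightDerived 0).map (E.map T).g = S.rightDerivedZeroIsoSelf.hom.app _ ≫ S.map (E.map T).g ≫
        S.rightDerivedZeroIsoSelf.inv.app _ by
          rw [S.rightDerivedZeroIsoSelf.inv.naturality, Iso.hom_inv_id_app_assoc]]
      infer_instance
    exact ((RDerLES.derivedLES S).exact₁ (E.map T) hTE 0 1 rfl).isZero_of_both_zeros
      (((RDerLES.derivedLES S).exact₃ (E.map T) hTE 0 1 rfl).epi_f_iff.1 (show Epi ((S.rightDerived 0).map (E.map T).g) from inferInstance))
      ((hT _ ip.injective 0).eq_of_tgt _ _)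
  | succ p ih =>
    let ip := (EnoughInjectives.presentation X).some
    haveI := ip.mono
    let E : ShortComplex A := ShortComplex.mk ip.f (cokernel.π ip.f) (cokernel.condition _)
    haveI : Injective E.X₂ := ip.injective
    have hE : E.ShortExact :=
      { exact := ShortComplex.exact_of_g_is_cokernel _ (cokernelIsCokernel _)
        mono_f := ip.mono
        epi_g := inferInstanceAs (Epi (cokernel.π ip.f)) }
    have key : ∀ {E' : Type u''} [Category.{v''} E'] [Abelian E'] (F : A ⥤ E') [F.Additive],
        GrothSS.IsAcyclicObj F X → GrothSS.IsAcyclicObj F E.X₃ := fun F _ hF q =>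
      ((RDerLES.derivedLES F).exact₃ E hE (q + 1) (q + 1 + 1) rfl).isZero_of_both_zeros
        ((Functor.isZero_rightDerived_obj_injective_succ F q E.X₂).eq_of_src _ _) ((hF (q + 1)).eq_of_tgt _ _)
    have keyD : ∀ (F : A ⥤ D) [F.Additive], GrothSS.IsAcyclicObj F X → GrothSS.IsAcyclicObj F E.X₃ := fun F _ hF q =>
      ((RDerLES.derivedLES F).exact₃ E hE (q + 1) (q + 1 + 1) rfl).isZero_of_both_zeros
        ((Functor.isZero_rightDerived_obj_injective_succ F q E.X₂).eq_of_src _ _) ((hF (q + 1)).eq_of_tgt _ _)
    haveI hg : Epi (T.map E.g) := by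
      haveI : Epi ((T.rightDerived 0).map E.g) :=
        ((RDerLES.derivedLES T).exact₃ E hE 0 1 rfl).epi_f ((h1 0).eq_of_tgt _ _)
      rw [show T.map E.g = T.rightDerivedZeroIsoSelf.inv.app _ ≫ (T.rightDerived 0).map E.g ≫
        T.rightDerivedZeroIsoSelf.hom.app _ by rw [T.rightDerivedZeroIsoSelf.hom.naturality, Iso.inv_hom_id_app_assoc]]
      infer_instance
    have hTE : (E.map T).ShortExact :=
      { exact := ((Functor.preservesFiniteLimits_iff_forall_exact_map_and_mono T).1 inferInstance E hE).1
        mono_f := ((Functor.preservesFiniteLimits_iff_forall_exact_map_and_mono T).1 inferInstance E hE).2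
        epi_g := hg }
    exact ((RDerLES.derivedLES S).exact₁ (E.map T) hTE (p + 1) (p + 1 + 1) rfl).isZero_of_both_zeros
      ((ih (key T h1) (keyD (T ⋙ S) h2)).eq_of_src _ _) ((hT _ ip.injective (p + 1)).eq_of_tgt _ _)

end acyclic

variable {C : Type u} [SmallCategory C] (J : GrothendieckTopology C) (X : C)

/-- restriction of sheaves to `C/X` -/
noncomputable abbrev resX : Sheaf J AddCommGrpCat.{u} ⥤ Sheaf (J.over X) AddCommGrpCat.{u} :=
  SiteCoh.OverExact.res X J

/-- sections over `X` -/
noncomputable abbrev secX : Sheaf J AddCommGrpCat.{u} ⥤ AddCommGrpCat.{u} :=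
  sheafToPresheaf J AddCommGrpCat.{u} ⋙ (evaluation Cᵒᵖ AddCommGrpCat.{u}).obj (op X)

theorem injective_resX (I : Sheaf J AddCommGrpCat.{u}) [Injective I] : Injective ((resX J X).obj I) :=
  haveI := SiteCoh.OverExact.sheafPullback_over_preservesFiniteLimits X J
  haveI : (SiteCoh.OverExact.shr X J).PreservesMonomorphisms := preservesMonomorphisms_of_preservesLimitsOfShape _
  haveI := Functor.preservesInjectiveObjects_of_adjunction_of_preservesMonomorphisms (SiteCoh.OverExact.shrAdj X J)
  (resX J X).injective_obj I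

/-- the evaluation at the terminal point -/
noncomputable def pointVal (F : Sheaf J AddCommGrpCat.{u}) :
    (zPoint (J.over X) ⟶ (resX J X).obj F) →+ F.obj.obj (op X) :=
  AddMonoidHom.mk' (fun φ => (unSheafify φ).app (op (Over.mk (𝟙 X))) (FreeAbelianGroup.of PUnit.unit))
    fun φ ψ => by rw [unSheafify_add]; rfl

/-- the same as a composite equivalence -/
noncomputable def pointValEquiv (F : Sheaf J AddCommGrpCat.{u}) :
    (zPoint (J.over X) ⟶ (resX J X).obj F) ≃ F.obj.obj (op X) :=
  ((sheafificationAdjunction (J.over X) AddCommGrpCat.{u}).homEquiv ((freePre (Over X)).obj (onePre (Over X))) _).trans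
    (((AddCommGrpCat.adj.{u}.whiskerRight (Over X)ᵒᵖ).homEquiv (onePre (Over X)) ((resX J X).obj F).obj).trans
      { toFun := fun θ => θ.app (op (Over.mk (𝟙 X))) PUnit.unit
        invFun := fun s =>
          { app := fun V => ↾fun _ => F.obj.map V.unop.hom.op s
            naturality := fun V W g => ConcreteCategory.hom_ext _ _ fun _ => by
              show F.obj.map W.unop.hom.op s = F.obj.map g.unop.left.op (F.obj.map V.unop.hom.op s)
              rw [← Functor.map_comp_apply, ← op_comp, Over.w] }
        left_inv := fun θ => NatTrans.ext (funext fun V => ConcreteCategory.hom_ext _ _ fun z => by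
          obtain rfl : z = PUnit.unit := rfl
          exact (NatTrans.naturality_apply θ (Over.homMk V.unop.hom : V.unop ⟶ Over.mk (𝟙 X)).op PUnit.unit).symm)
        right_inv := fun s => (congrArg (fun m => F.obj.map m s) (show (Over.mk (𝟙 X)).hom.op = 𝟙 _ from rfl)).trans
          (Functor.map_id_apply _ _ s) })

lemma pointVal_bijective (F : Sheaf J AddCommGrpCat.{u}) : Function.Bijective (pointVal J X F) := by
  have h : ⇑(pointVal J X F) = ⇑(pointValEquiv J X F) := by
    funext φ
    rfl
  rw [h]
  exact (pointValEquiv J X F).bijective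

/-- `Hom(ℤ, F|X) ≅ F(X)` -/
noncomputable def pointSecIso : resX J X ⋙ preadditiveCoyoneda.obj (op (zPoint (J.over X))) ≅ secX J X :=
  NatIso.ofComponents (fun F => (AddEquiv.ofBijective _ (pointVal_bijective J X F)).toAddCommGrpIso)
    fun {F G} g => by
      ext φ
      show (unSheafify (φ ≫ (resX J X).map g)).app (op (Over.mk (𝟙 X))) (FreeAbelianGroup.of PUnit.unit) = g.hom.app (op X) ((unSheafify φ).app (op (Over.mk (𝟙 X))) (FreeAbelianGroup.of PUnit.unit))
      rw [unSheafify_comp]
      rfl

variable {J X} {K : SimplicialObject (FormalCoproduct.{u} (Over X))}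
  [∀ (n : ℕ) (F : (SimplexCategory.Truncated n)ᵒᵖ ⥤ FormalCoproduct.{u} (Over X)),
    (SimplexCategory.Truncated.inclusion n).op.HasRightKanExtension F]

theorem nonempty_cechH_zero (hK : Hyper.IsHypercovering J X K) (F : Sheaf J AddCommGrpCat.{u}) :
    Nonempty (Hyper.cechH X K F.obj 0 ≅ F.obj.obj (op X)) :=
  ⟨(limIsoH0.app ((valF (J.over X) K).obj ((resX J X).obj F))).symm ≪≫
    ((homLimIso (locLift_over K hK)).app ((resX J X).obj F)).symm ≪≫ (pointSecIso J X).app F⟩

theorem isZero_cechH_injective (hK : Hyper.IsHypercovering J X K) (I : Sheaf J AddCommGrpCat.{u}) [Injective I] (p : ℕ) :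
    IsZero (Hyper.cechH X K I.obj (p + 1)) :=
  haveI := injective_resX J X I
  isZero_csH_valF (locLift_over K hK) ((resX J X).obj I) p

theorem isZero_cechH_of_acyclic (hK : Hyper.IsHypercovering J X K) (F : Sheaf J AddCommGrpCat.{u})
    (hF : ∀ (U : C) (q : ℕ), Subsingleton (CohSite.HU F (q + 1) U)) (p : ℕ) :
    IsZero (Hyper.cechH X K F.obj (p + 1)) := by
  have hcoh : ∀ q, IsZero (Sheaf.cohomologyPresheaf F (q + 1)) := fun q =>
    (Functor.isZero_iff _).2 fun U => @AddCommGrpCat.isZero_of_subsingleton _ (hF U.unop q)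
  let W : (Cᵒᵖ ⥤ AddCommGrpCat.{u}) ⥤ (Over X)ᵒᵖ ⥤ AddCommGrpCat.{u} :=
    (Functor.whiskeringLeft _ _ AddCommGrpCat.{u}).obj (Over.forget X).op
  let T : Sheaf J AddCommGrpCat.{u} ⥤ Cs.{u} := sheafToPresheaf J AddCommGrpCat.{u} ⋙ W ⋙ preF K
  haveI : PreservesFiniteLimits (preF K) := Functor.preservesFiniteLimits_of_preservesHomology _
  haveI : PreservesFiniteLimits T := inferInstanceAs (PreservesFiniteLimits (sheafToPresheaf J AddCommGrpCat.{u} ⋙ W ⋙ preF K))
  haveI := SiteCoh.OverExact.sheafPullback_over_preservesFiniteLimits X J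
  haveI : (SiteCoh.OverExact.shr X J).Additive := (SiteCoh.OverExact.shrAdj X J).left_adjoint_additive
  haveI : (resX J X).Additive := (SiteCoh.OverExact.shrAdj X J).right_adjoint_additive
  have h1 : GrothSS.IsAcyclicObj T F := fun q =>
    ((W ⋙ preF K).map_isZero (hcoh q)).of_iso ((injectiveResolution F).isoRightDerivedObj T (q + 1) ≪≫
      (((SiteCoh.preCx (injectiveResolution F)).sc (q + 1)).map W).mapHomologyIso (preF K) ≪≫
      (preF K).mapIso (((SiteCoh.preCx (injectiveResolution F)).sc (q + 1)).mapHomologyIso W ≪≫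
        W.mapIso (SiteCoh.cohPresheafIso (injectiveResolution F) (q + 1))))
  let e : T ⋙ limF ≅ secX J X :=
    Functor.isoWhiskerLeft (resX J X) (homLimIso (locLift_over K hK)).symm ≪≫ pointSecIso J X
  have h2 : GrothSS.IsAcyclicObj (T ⋙ limF) F := fun q =>
    ((((evaluation Cᵒᵖ AddCommGrpCat.{u}).obj (op X)).map_isZero (hcoh q)).of_iso
      ((injectiveResolution F).isoRightDerivedObj (secX J X) (q + 1) ≪≫
        ((SiteCoh.preCx (injectiveResolution F)).sc (q + 1)).mapHomologyIso ((evaluation Cᵒᵖ AddCommGrpCat.{u}).obj (op X)) ≪≫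
        ((evaluation Cᵒᵖ AddCommGrpCat.{u}).obj (op X)).mapIso (SiteCoh.cohPresheafIso (injectiveResolution F) (q + 1)))).of_iso
      ((GrothSS.rightDerivedCongr e (q + 1)).app F)
  have := isAcyclicObj_map T limF (fun Q hQ => isAcyclicObj_lim fun p =>
    (haveI := hQ; isZero_cechH_injective hK Q p)) h1 h2
  exact (this p).of_iso (nonempty_rightDerived_lim_iso (p + 1) (T.obj F)).some.symm

end Groth.Agent.Hypercov
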