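import Groth.Prelude.Def_Hyper

/-! # Coverings of formal coproducts -/

set_option autoImplicit false
set_option linter.all false
set_option backward.isDefEq.respectTransparency false
set_option backward.defeqAttrib.useBackward true

universe u

open CategoryTheory CategoryTheory.Limits Opposite

namespace Groth.Agent.Hypercov

variable {C : Type u} [SmallCategory C] {J : GrothendieckTopology C}

theorem isSRCovering_comp {K L M : FormalCoproduct.{u} C} (f : K ⟶ L) (g : L ⟶ M)
    (hf : Hyper.IsSRCovering J f) (hg : Hyper.IsSRCovering J g) : Hyper.IsSRCovering J (f ≫ g) := by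
  intro j
  refine J.transitive (hg j) _ fun {Y} h hh => ?_
  rw [Sieve.mem_ofArrows_iff] at hh
  obtain ⟨⟨k, hk⟩, t, rfl⟩ := hh
  refine J.superset_covering ?_ (J.pullback_stable t (hf k))
  intro V s hs
  rw [Sieve.pullback_apply, Sieve.mem_ofArrows_iff] at hs
  obtain ⟨⟨i, hi⟩, a, ha⟩ := hs
  rw [Sieve.pullback_apply, Sieve.mem_ofArrows_iff]
  subst hi
  refine ⟨⟨i, hk⟩, a, ?_⟩
  rw [eqToHom_refl, Category.comp_id] at ha
  calc s ≫ t ≫ g.φ (f.f i) ≫ eqToHom _ = (s ≫ t) ≫ g.φ (f.f i) ≫ eqToHom _ := (Category.assoc _ _ _).symm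
    _ = (a ≫ f.φ i) ≫ g.φ (f.f i) ≫ eqToHom _ := by rw [ha]
    _ = _ := by simp [Category.assoc]

theorem isSRCovering_pullback_fst {K L L' : FormalCoproduct.{u} C} (f : K ⟶ L) (g : L' ⟶ L)
    (hf : Hyper.IsSRCovering J f) [HasPullback g f] : Hyper.IsSRCovering J (pullback.fst g f) := by
  intro a
  refine J.superset_covering ?_ (J.pullback_stable (g.φ a) (hf (g.f a)))
  intro V h hh
  rw [Sieve.pullback_apply, Sieve.mem_ofArrows_iff] at hh
  obtain ⟨⟨i, hi⟩, t, ht⟩ := hh
  let p : (FormalCoproduct.incl C).obj V ⟶ L' := ⟨fun _ => a, fun _ => h⟩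
  let q : (FormalCoproduct.incl C).obj V ⟶ K := ⟨fun _ => i, fun _ => t⟩
  have hw : p ≫ g = q ≫ f :=
    FormalCoproduct.hom_ext (funext fun _ => hi.symm) fun _ => by
      show (h ≫ g.φ a) ≫ eqToHom _ = t ≫ f.φ i
      rw [ht]
      simp [Category.assoc]
  let m := pullback.lift p q hw
  have hm : m ≫ pullback.fst g f = p := pullback.lift_fst p q hw
  obtain ⟨h1, h2⟩ := (FormalCoproduct.hom_ext_iff _ _).1 hm
  rw [Sieve.mem_ofArrows_iff]
  refine ⟨⟨m.f PUnit.unit, congrFun h1 PUnit.unit⟩, m.φ PUnit.unit, ?_⟩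
  exact (h2 PUnit.unit).symm.trans (Category.assoc _ _ _)

/-- a covering morphism pulls covering families back to covering families -/
theorem covering_of_isSRCovering {X : C} {K L : FormalCoproduct.{u} (Over X)} (f : K ⟶ L)
    (hf : Hyper.IsSRCovering (J.over X) f)
    (hL : Sieve.ofArrows (fun i => (L.obj i).left) (fun i => (L.obj i).hom) ∈ J X) :
    Sieve.ofArrows (fun i => (K.obj i).left) (fun i => (K.obj i).hom) ∈ J X := by
  refine J.transitive hL _ fun {Y} h hh => ?_
  rw [Sieve.mem_ofArrows_iff] at hh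
  obtain ⟨j, t, rfl⟩ := hh
  have := hf j
  rw [GrothendieckTopology.mem_over_iff] at this
  refine J.superset_covering ?_ (J.pullback_stable t this)
  intro V s hs
  rw [Sieve.pullback_apply, Sieve.overEquiv_iff, Sieve.mem_ofArrows_iff] at hs
  obtain ⟨⟨i, hi⟩, a, ha⟩ := hs
  rw [Sieve.pullback_apply, Sieve.mem_ofArrows_iff]
  exact ⟨i, a.left, (Category.assoc _ _ _).symm.trans (Over.w a).symm⟩

end Groth.Agent.Hypercov

namespace Groth.Agent.Hypercov

variable {C : Type u} [SmallCategory C] {J : GrothendieckTopology C}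

theorem isSRCovering_of_section {K L : FormalCoproduct.{u} C} (f : K ⟶ L) (s : L ⟶ K) (h : s ≫ f = 𝟙 L) :
    Hyper.IsSRCovering J f := by
  intro j
  obtain ⟨h1, h2⟩ := (FormalCoproduct.hom_ext_iff _ _).1 h
  refine J.superset_covering ?_ (J.top_mem _)
  intro V g _
  rw [Sieve.mem_ofArrows_iff]
  refine ⟨⟨s.f j, congrFun h1 j⟩, g ≫ s.φ j, ?_⟩
  have e := h2 j
  calc g = g ≫ (s ≫ f).φ j ≫ eqToHom _ := by rw [e]; exact (Category.comp_id g).symm
    _ = _ := by simp [Category.assoc]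

theorem covering_of_map {X : C} {K L : FormalCoproduct.{u} (Over X)} (s : K ⟶ L)
    (hK : Sieve.ofArrows (fun i => (K.obj i).left) (fun i => (K.obj i).hom) ∈ J X) :
    Sieve.ofArrows (fun i => (L.obj i).left) (fun i => (L.obj i).hom) ∈ J X := by
  refine J.superset_covering ?_ hK
  intro V g hg
  rw [Sieve.mem_ofArrows_iff] at hg ⊢
  obtain ⟨i, t, rfl⟩ := hg
  exact ⟨s.f i, t ≫ (s.φ i).left, by rw [Category.assoc, Over.w]⟩

end Groth.Agent.Hypercov
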