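import Groth.Agent.Hypercov.Homology
import Mathlib.CategoryTheory.Adjunction.Evaluation
import Mathlib.CategoryTheory.Limits.FormalCoproducts.Basic
import Mathlib.CategoryTheory.Limits.Types.Coproducts
import Mathlib.AlgebraicTopology.ExtraDegeneracy
import Mathlib.CategoryTheory.Sites.EpiMono
import Groth.Prelude.Def_Hyper

/-! # Hypercoverings and coskeletal maps are locally trivial fibrations -/

set_option autoImplicit false
set_option linter.all false
set_option backward.isDefEq.respectTransparency false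
set_option backward.defeqAttrib.useBackward true

universe u v w

open CategoryTheory CategoryTheory.Limits Opposite Simplicial AlgebraicTopology

namespace Groth.Agent.Hypercov

lemma IsBdry.map {X Y : SSet.{u}} (φ : X ⟶ Y) {k : ℕ} {y : Fin (k + 2) → X _⦋k⦌} (hy : IsBdry y) :
    IsBdry (fun i => φ.app (op ⦋k⦌) (y i)) := by
  intro p a b i j h
  show Y.map a.op (φ.app _ (y i)) = Y.map b.op (φ.app _ (y j))
  rw [← NatTrans.naturality_apply φ, ← NatTrans.naturality_apply φ, hy a b i j h]

section

variable {E : Type w} [Category.{v} E] {R R' : E ⥤ Type u} (ρ : R ⟶ R')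
variable (n : ℕ) [∀ (F : (SimplexCategory.Truncated n)ᵒᵖ ⥤ E),
    (SimplexCategory.Truncated.inclusion n).op.HasRightKanExtension F]

lemma coskTr_natural (Z : SimplicialObject E) {m : SimplexCategory}
    (t : (pointsOf R ((SimplicialObject.cosk n).obj Z)).obj (op m)) :
    coskTr R' n Z (ρ.app _ t) = coskTr R n Z t ≫ (SimplicialObject.truncation n).map (Functor.whiskerLeft Z ρ) := by
  unfold coskTr
  rw [show trOf (X := pointsOf R' ((SimplicialObject.cosk n).obj Z)) n (ρ.app _ t) =
    trOf n t ≫ (SimplicialObject.truncation n).map (Functor.whiskerLeft ((SimplicialObject.cosk n).obj Z) ρ) from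
      (trOf_natural (Functor.whiskerLeft ((SimplicialObject.cosk n).obj Z) ρ) n t).symm]
  rw [Category.assoc, Category.assoc]
  refine congrArg (trOf n t ≫ ·) (NatTrans.ext (funext fun p => ?_))
  exact (ρ.naturality _).symm

end

variable {C : Type u} [SmallCategory C] {J : GrothendieckTopology C}

/-- a map of coskeletal objects, bijective below `n` and locally surjective in degree `n` -/
theorem locLift_of_coskeletal {L K : SPre C} (f : L ⟶ K) (n : ℕ)
    (h1 : ∀ i : ℕ, i < n → IsIso (f.app (op ⦋i⦌)))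
    (h2 : Presheaf.IsLocallySurjective J (f.app (op ⦋n⦌)))
    (hL : ∀ (U : C) (m : SimplexCategory), Function.Bijective (trOf (X := ev L U) n (m := m)))
    (hK : ∀ (U : C) (m : SimplexCategory), Function.Injective (trOf (X := ev K U) n (m := m))) :
    LocLift J f := by
  have hb : ∀ (U : C) (i : ℕ), i < n → Function.Bijective ((evMap f U).app (op ⦋i⦌)) := fun U i hi => by
    haveI := h1 i hi
    exact (isIso_iff_bijective _).1 (inferInstanceAs (IsIso ((pt U).map (f.app (op ⦋i⦌)))))
  refine ⟨fun U w => ?_, fun U k w y hy hw => ?_⟩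
  · rcases Nat.eq_zero_or_pos n with rfl | hn
    · exact Presheaf.imageSieve_mem J (f.app (op ⦋0⦌)) (U := op U) w
    · obtain ⟨l, hl⟩ := (hb U 0 hn).2 w
      exact J.superset_covering (fun V g _ => ⟨(res L g).app _ l, by rw [evMap_res, hl]⟩) (J.top_mem U)
  · rcases lt_or_ge k n with hk | hk
    · have hface : ∀ {V : C} (g : V ⟶ U) (l : (ev L V) _⦋k + 1⦌),
          (evMap f V).app (op ⦋k + 1⦌) l = (res K g).app _ w →
          ∀ i, (ev L V).δ i l = (res L g).app _ (y i) := fun {V} g l hl i => (hb V k hk).1 (by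
        rw [evMap_δ, hl, evMap_res, hw, res_δ])
      rcases lt_or_eq_of_le (Nat.succ_le_of_lt hk) with hk' | hk'
      · obtain ⟨l, hl⟩ := (hb U (k + 1) hk').2 w
        refine J.superset_covering (fun V g _ => ⟨(res L g).app _ l, hface g _ ?_, ?_⟩) (J.top_mem U) <;>
          rw [evMap_res, hl]
      · subst hk'
        refine J.superset_covering ?_ (Presheaf.imageSieve_mem J (f.app (op ⦋k + 1⦌)) (U := op U) w)
        rintro V g ⟨l, hl⟩
        exact ⟨l, hface g l hl, hl⟩
    · obtain ⟨l, hl⟩ := (hL U _).2 (bdryTr hk y hy)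
      have hl' : ∀ i, (ev L U).δ i l = y i := fun i => (hL U _).1 (δ_trOf_of_trOf_eq hk hl i)
      have hfl : (evMap f U).app _ l = w := by
        refine hK U _ ?_
        rw [← trOf_natural, hl, bdryTr_natural (evMap f U) hk hy (hy.map (evMap f U)) (fun i => rfl)]
        exact (trOf_eq_bdryTr hk (hy.map (evMap f U)) fun i => (hw i).symm).symm
      exact J.superset_covering (fun V g _ => ⟨(res L g).app _ l, fun i => by rw [← res_δ, hl'],
        by rw [evMap_res, hfl]⟩) (J.top_mem U)

theorem locLift_of_isIso_unit {L K : SPre C} (f : L ⟶ K) (n : ℕ)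
    [∀ (F : (SimplexCategory.Truncated n)ᵒᵖ ⥤ (Cᵒᵖ ⥤ Type u)),
      (SimplexCategory.Truncated.inclusion n).op.HasRightKanExtension F]
    (h1 : ∀ i : ℕ, i < n → IsIso (f.app (op ⦋i⦌)))
    (h2 : Presheaf.IsLocallySurjective J (f.app (op ⦋n⦌)))
    (h3 : IsIso ((SimplicialObject.coskAdj n).unit.app L))
    (h4 : IsIso ((SimplicialObject.coskAdj n).unit.app K)) : LocLift J f :=
  locLift_of_coskeletal f n h1 h2
    (fun U m => trOf_bijective n (evaluationAdjunctionRight (Type u) (op U)) L m)
    (fun U m => (trOf_bijective n (evaluationAdjunctionRight (Type u) (op U)) K m).1)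

/-! ### sheaves -/

/-- the underlying simplicial presheaf -/
abbrev shToPre (L : SimplicialObject (Sheaf J (Type u))) : SPre C := L ⋙ sheafToPresheaf J (Type u)

theorem locLift_sheaves {L K : SimplicialObject (Sheaf J (Type u))} (f : L ⟶ K) (n : ℕ)
    [∀ (F : (SimplexCategory.Truncated n)ᵒᵖ ⥤ Sheaf J (Type u)),
      (SimplexCategory.Truncated.inclusion n).op.HasRightKanExtension F]
    (h1 : ∀ i : ℕ, i < n → IsIso (f.app (op ⦋i⦌)))
    (h2 : Epi (f.app (op ⦋n⦌)))
    (h3 : IsIso ((SimplicialObject.coskAdj n).unit.app L))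
    (h4 : IsIso ((SimplicialObject.coskAdj n).unit.app K)) :
    LocLift J (Functor.whiskerRight f (sheafToPresheaf J (Type u))) :=
  locLift_of_coskeletal _ n (fun i hi => by
      haveI := h1 i hi
      show IsIso ((sheafToPresheaf J (Type u)).map (f.app (op ⦋i⦌)))
      infer_instance)
    ((Sheaf.isLocallySurjective_iff_epi (f.app (op ⦋n⦌))).2 h2)
    (fun U m => trOf_bijective n ((evaluationAdjunctionRight (Type u) (op U)).comp (sheafificationAdjunction J (Type u))) L m)
    (fun U m => (trOf_bijective n ((evaluationAdjunctionRight (Type u) (op U)).comp (sheafificationAdjunction J (Type u))) K m).1)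

/-! ### formal coproducts -/

/-- points of a formal coproduct at an object -/
@[reducible] def sigmaPts (U : C) : FormalCoproduct.{u} C ⥤ Type u where
  obj X := Σ i, U ⟶ X.obj i
  map f := ↾fun x => ⟨f.f x.1, x.2 ≫ f.φ x.1⟩
  map_id X := by
    apply ConcreteCategory.hom_ext
    intro x
    exact congrArg (Sigma.mk x.1) (Category.comp_id x.2)
  map_comp f g := by
    apply ConcreteCategory.hom_ext
    intro x
    exact congrArg (Sigma.mk (g.f (f.f x.1))) (Category.assoc _ _ _).symm

/-- constant families -/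
@[reducible] def constFam (U : C) : Type u ⥤ FormalCoproduct.{u} C where
  obj S := ⟨S, fun _ => U⟩
  map f := ⟨f, fun _ => 𝟙 U⟩
  map_id S := FormalCoproduct.hom_ext rfl fun i => by simp
  map_comp f g := FormalCoproduct.hom_ext rfl fun i => by simp

/-- constant families are left adjoint to points -/
noncomputable def constFamAdj (U : C) : constFam U ⊣ sigmaPts U :=
  Adjunction.mkOfHomEquiv
    { homEquiv := fun S X =>
        { toFun := fun h => ↾fun s => ⟨h.f s, h.φ s⟩
          invFun := fun g => ⟨fun s => (g s).1, fun s => (g s).2⟩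
          left_inv := fun h => FormalCoproduct.hom_ext rfl fun i => by simp
          right_inv := fun g => by apply ConcreteCategory.hom_ext; intro s; rfl }
      homEquiv_naturality_left_symm := fun {S' S X} f g => FormalCoproduct.hom_ext rfl fun i => by simp
      homEquiv_naturality_right := fun {S X Y} h g => by apply ConcreteCategory.hom_ext; intro s; rfl }

/-- points are sections of the Yoneda presheaf -/
noncomputable def sigmaPtsIso (U : C) : sigmaPts U ≅ FormalCoproduct.yoneda.{u} ⋙ pt U :=
  NatIso.ofComponents (fun X => (Types.coproductIso fun i => U ⟶ X.obj i).symm ≪≫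
      (PreservesCoproduct.iso (pt U) fun i => yoneda.obj (X.obj i)).symm)
    fun {X Y} f => by
      ext ⟨i, φ⟩
      have key : ∀ (Z : FormalCoproduct.{u} C) (j : Z.I) (ψ : U ⟶ Z.obj j),
          ((Types.coproductIso fun i => U ⟶ Z.obj i).symm ≪≫
            (PreservesCoproduct.iso (pt U) fun i => yoneda.obj (Z.obj i)).symm).hom ⟨j, ψ⟩ =
          (Sigma.ι (fun i => yoneda.obj (Z.obj i)) j).app (op U) ψ := by
        intro Z j ψ
        exact ConcreteCategory.congr_hom (show Sigma.ι (fun i => (pt U).obj (yoneda.obj (Z.obj i))) j ≫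
          (PreservesCoproduct.iso (pt U) fun i => yoneda.obj (Z.obj i)).inv = (pt U).map (Sigma.ι (fun i => yoneda.obj (Z.obj i)) j) from by
            rw [PreservesCoproduct.inv_hom]; exact ι_comp_sigmaComparison (pt U) _ j) ψ
      refine (key Y _ _).trans (Eq.trans ?_ (congrArg _ (key X i φ)).symm)
      exact (ConcreteCategory.congr_hom (NatTrans.congr_app (show Sigma.ι (fun i => yoneda.obj (X.obj i)) i ≫
        FormalCoproduct.yoneda.map f = yoneda.map (f.φ i) ≫ Sigma.ι (fun i => yoneda.obj (Y.obj i)) (f.f i) from by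
          simp [FormalCoproduct.eval, Function.comp_def]) (op U)) φ).symm

/-- the adjunction for sections of the Yoneda presheaf -/
noncomputable def yonedaPtsAdj (U : C) : constFam U ⊣ FormalCoproduct.yoneda.{u} ⋙ pt U :=
  (constFamAdj U).ofNatIsoRight (sigmaPtsIso U)

variable (C) in
/-- the point -/
abbrev onePre : Cᵒᵖ ⥤ Type u := (Functor.const Cᵒᵖ).obj PUnit.{u + 1}

variable (C) in
/-- the simplicial point -/
abbrev oneS : SPre C := (Functor.const SimplexCategoryᵒᵖ).obj (onePre C)

/-- the map to the point -/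
def toOne (L : SPre C) : L ⟶ oneS C where
  app m := { app := fun U => ↾fun _ => PUnit.unit }

lemma locally_of_prod {P Q P' : Cᵒᵖ ⥤ Type u} (a : P ⟶ Q) (b : P ⟶ P') [Presheaf.IsLocallySurjective J (prod.lift a b)]
    (U : C) (x : Q.obj (op U)) (y : P'.obj (op U)) :
    ∃ R ∈ J U, ∀ ⦃V : C⦄ (g : V ⟶ U), R g → ∃ t, a.app (op V) t = Q.map g.op x ∧ b.app (op V) t = P'.map g.op y := by
  let s : (Q ⨯ P').obj (op U) := (prod.lift (yonedaEquiv.symm x) (yonedaEquiv.symm y)).app (op U) (𝟙 U)
  have h1 : (prod.fst : Q ⨯ P' ⟶ Q).app (op U) s = x :=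
    (ConcreteCategory.congr_hom (NatTrans.congr_app (prod.lift_fst (yonedaEquiv.symm x) (yonedaEquiv.symm y)) (op U)) (𝟙 U)).trans
      (Functor.map_id_apply Q (op U) x)
  have h2 : (prod.snd : Q ⨯ P' ⟶ P').app (op U) s = y :=
    (ConcreteCategory.congr_hom (NatTrans.congr_app (prod.lift_snd (yonedaEquiv.symm x) (yonedaEquiv.symm y)) (op U)) (𝟙 U)).trans
      (Functor.map_id_apply P' (op U) y)
  refine ⟨_, Presheaf.imageSieve_mem J (prod.lift a b) s, ?_⟩
  rintro V g ⟨t, ht⟩
  refine ⟨t, ?_, ?_⟩
  · rw [← h1, ← NatTrans.naturality_apply (prod.fst : Q ⨯ P' ⟶ Q), ← ht]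
    exact (ConcreteCategory.congr_hom (NatTrans.congr_app (prod.lift_fst a b) (op V)) t).symm
  · rw [← h2, ← NatTrans.naturality_apply (prod.snd : Q ⨯ P' ⟶ P'), ← ht]
    exact (ConcreteCategory.congr_hom (NatTrans.congr_app (prod.lift_snd a b) (op V)) t).symm

theorem locLift_hypercovering (K : SimplicialObject (FormalCoproduct.{u} C))
    [∀ (n : ℕ) (F : (SimplexCategory.Truncated n)ᵒᵖ ⥤ FormalCoproduct.{u} C),
      (SimplexCategory.Truncated.inclusion n).op.HasRightKanExtension F]
    (hK : Hyper.IsHypercoveringSite J K) :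
    LocLift J (toOne (K ⋙ FormalCoproduct.yoneda.{u})) := by
  obtain ⟨h0, h1, h2⟩ := hK
  refine ⟨fun U w => ?_, fun U k w y hy _ => ?_⟩
  · let s : (⊤_ (Cᵒᵖ ⥤ Type u)).obj (op U) := (terminal.from (onePre C)).app (op U) PUnit.unit
    haveI := h0
    refine J.superset_covering ?_ (Presheaf.imageSieve_mem J
      (terminal.from (FormalCoproduct.yoneda.{u}.obj (K.obj (op ⦋0⦌)))) s)
    rintro V g ⟨l, -⟩
    exact ⟨l, rfl⟩
  · cases k with
    | zero =>
      haveI := h1
      obtain ⟨R, hR, hR'⟩ := locally_of_prod (J := J)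
        (FormalCoproduct.yoneda.{u}.map (K.δ (1 : Fin 2))) (FormalCoproduct.yoneda.{u}.map (K.δ (0 : Fin 2))) U (y 1) (y 0)
      refine J.superset_covering ?_ hR
      intro V g hg
      obtain ⟨l, hl1, hl0⟩ := hR' g hg
      refine ⟨l, fun i => ?_, rfl⟩
      fin_cases i
      · exact hl0
      · exact hl1
    | succ k =>
      obtain ⟨t, ht⟩ := (coskTr_bijective (k + 1) (yonedaPtsAdj U) K ⦋k + 2⦌).2 (bdryTr le_rfl y hy)
      haveI := h2 (k + 1) (Nat.succ_pos k)
      refine J.superset_covering ?_ (Presheaf.imageSieve_mem J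
        (FormalCoproduct.yoneda.{u}.map (((SimplicialObject.coskAdj (k + 1)).unit.app K).app (op ⦋k + 2⦌))) (U := op U) t)
      rintro V g ⟨l, hl⟩
      refine ⟨l, fun i => ?_, rfl⟩
      have e : trOf (X := ev (K ⋙ FormalCoproduct.yoneda.{u}) V) (k + 1) l =
          bdryTr le_rfl (fun i => (res (K ⋙ FormalCoproduct.yoneda.{u}) g).app _ (y i)) (hy.map _) := by
        refine (coskTr_unit (R := FormalCoproduct.yoneda.{u} ⋙ pt V) (k + 1) K l).symm.trans ?_
        refine (congrArg (coskTr _ (k + 1) K) hl).trans ?_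
        refine (coskTr_natural (Functor.whiskerLeft FormalCoproduct.yoneda.{u}
          ((evaluation Cᵒᵖ (Type u)).map g.op)) (k + 1) K t).trans ?_
        rw [ht]
        exact bdryTr_natural (res (K ⋙ FormalCoproduct.yoneda.{u}) g) le_rfl hy (hy.map _) (fun i => rfl)
      have := trOf_apply_eq (δ_trOf_of_trOf_eq le_rfl e i) (p := ⦋k + 1⦌) le_rfl (𝟙 _)
      rw [op_id, Functor.map_id_apply, Functor.map_id_apply] at this
      exact this

end Groth.Agent.Hypercov
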