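import Groth.Agent.Hypercov.Acyclic
import Groth.Agent.Hypercov.CosimpH0
import Groth.Prelude.Def_CohCx
import Mathlib.CategoryTheory.Limits.Shapes.ConcreteCategory

/-! # Maps out of free sheaves on formal coproducts -/

set_option autoImplicit false
set_option linter.all false
set_option backward.isDefEq.respectTransparency false
set_option backward.defeqAttrib.useBackward true

universe u

open CategoryTheory CategoryTheory.Limits Opposite Simplicial AlgebraicTopology

namespace Groth.Agent.Hypercov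

section resolution

variable {A : Type*} [Category* A] [Abelian A]

/-- an augmentation which is a quasi-isomorphism presents the augmented object -/
theorem exact_epi_of_quasiIso {Z : A} (P : ChainComplex A ℕ) (π : P ⟶ (ChainComplex.single₀ _).obj Z) [QuasiIso π] :
    ∃ h : P.d 1 0 ≫ π.f 0 = 0, Nonempty (IsColimit (CokernelCofork.ofπ (π.f 0) h)) := by
  have h : P.d 1 0 ≫ π.f 0 = 0 := by rw [← π.comm 1 0, HomologicalComplex.single_obj_d, comp_zero]
  refine ⟨h, ⟨IsColimit.ofIsoColimit (P.opcyclesIsCokernel 1 0 (by simp))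
    (Cofork.ext (P.isoHomologyι₀.symm ≪≫ isoOfQuasiIsoAt π 0 ≪≫
      HomologicalComplex.singleObjHomologySelfIso _ _ _) ?_)⟩⟩
  rw [← cancel_mono (HomologicalComplex.singleObjHomologySelfIso (ComplexShape.down ℕ) 0 _).inv,
    ← cancel_mono (ChainComplex.isoHomologyι₀ _).hom]
  dsimp
  simp only [ChainComplex.isoHomologyι₀_inv_naturality_assoc, HomologicalComplex.p_opcyclesMap_assoc,
    ChainComplex.single₀_obj_zero, Category.assoc, Iso.hom_inv_id, Category.comp_id,
    HomologicalComplex.isoHomologyι_inv_hom_id, HomologicalComplex.singleObjHomologySelfIso_inv_homologyι,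
    HomologicalComplex.singleObjOpcyclesSelfIso_hom, HomologicalComplex.singleObjXSelf, Iso.refl_inv,
    Category.id_comp, ChainComplex.single₀ObjXSelf]
  congr 1
  exact (Category.id_comp _).symm

end resolution

variable {C : Type u} [SmallCategory C] (J : GrothendieckTopology C)

/-- the free sheaf on a formal coproduct -/
noncomputable abbrev freeFam : FormalCoproduct.{u} C ⥤ Sheaf J AddCommGrpCat.{u} :=
  FormalCoproduct.yoneda.{u} ⋙ freeShF J

/-- the tautological points -/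
noncomputable def tautPt (𝒰 : FormalCoproduct.{u} C) (i : 𝒰.I) :
    (FormalCoproduct.yoneda.{u}.obj 𝒰).obj (op (𝒰.obj i)) :=
  (Sigma.ι (fun i => yoneda.obj (𝒰.obj i)) i).app (op (𝒰.obj i)) (𝟙 (𝒰.obj i))

lemma tautPt_map {𝒰 𝒱 : FormalCoproduct.{u} C} (f : 𝒰 ⟶ 𝒱) (i : 𝒰.I) :
    (FormalCoproduct.yoneda.map f).app (op (𝒰.obj i)) (tautPt 𝒰 i) =
      (FormalCoproduct.yoneda.{u}.obj 𝒱).map (f.φ i).op (tautPt 𝒱 (f.f i)) := by
  have h : Sigma.ι (fun i => yoneda.obj (𝒰.obj i)) i ≫ FormalCoproduct.yoneda.map f =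
      yoneda.map (f.φ i) ≫ Sigma.ι (fun i => yoneda.obj (𝒱.obj i)) (f.f i) := by
    simp [FormalCoproduct.eval, Function.comp_def]
  refine (ConcreteCategory.congr_hom (NatTrans.congr_app h (op (𝒰.obj i))) (𝟙 (𝒰.obj i))).trans ?_
  show (Sigma.ι (fun i => yoneda.obj (𝒱.obj i)) (f.f i)).app (op (𝒰.obj i))
    ((yoneda.map (f.φ i)).app (op (𝒰.obj i)) (𝟙 (𝒰.obj i))) = _
  rw [show (yoneda.map (f.φ i)).app (op (𝒰.obj i)) (𝟙 (𝒰.obj i)) =
    (yoneda.obj (𝒱.obj (f.f i))).map (f.φ i).op (𝟙 (𝒱.obj (f.f i))) by simp]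
  exact NatTrans.naturality_apply (Sigma.ι (fun i => yoneda.obj (𝒱.obj i)) (f.f i)) (f.φ i).op (𝟙 (𝒱.obj (f.f i)))

variable {J}

/-- a map out of a free sheaf as a map of presheaves of groups -/
noncomputable def unSheafify {P : Cᵒᵖ ⥤ Type u} {F : Sheaf J AddCommGrpCat.{u}} (φ : (freeShF J).obj P ⟶ F) :
    (freePre C).obj P ⟶ F.obj :=
  (sheafificationAdjunction J AddCommGrpCat.{u}).homEquiv _ _ φ

lemma unSheafify_add {P : Cᵒᵖ ⥤ Type u} {F : Sheaf J AddCommGrpCat.{u}} (φ ψ : (freeShF J).obj P ⟶ F) :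
    unSheafify (φ + ψ) = unSheafify φ + unSheafify ψ := by
  simp only [unSheafify, Adjunction.homEquiv_unit]
  exact (congrArg _ (Functor.map_add _)).trans (Preadditive.comp_add _ _ _ _ _ _)

lemma unSheafify_map {P Q : Cᵒᵖ ⥤ Type u} {F : Sheaf J AddCommGrpCat.{u}} (a : P ⟶ Q) (φ : (freeShF J).obj Q ⟶ F) :
    unSheafify ((freeShF J).map a ≫ φ) = (freePre C).map a ≫ unSheafify φ :=
  (sheafificationAdjunction J AddCommGrpCat.{u}).homEquiv_naturality_left _ _

lemma unSheafify_comp {P : Cᵒᵖ ⥤ Type u} {F G : Sheaf J AddCommGrpCat.{u}} (φ : (freeShF J).obj P ⟶ F) (g : F ⟶ G) :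
    unSheafify (φ ≫ g) = unSheafify φ ≫ g.hom :=
  (sheafificationAdjunction J AddCommGrpCat.{u}).homEquiv_naturality_right _ _

variable (F : Sheaf J AddCommGrpCat.{u}) (𝒰 : FormalCoproduct.{u} C)

/-- the values of a map at the tautological points -/
noncomputable def valHom : ((freeFam J).obj 𝒰 ⟶ F) →+ ∀ i : 𝒰.I, F.obj.obj (op (𝒰.obj i)) :=
  AddMonoidHom.mk' (fun φ i => (unSheafify φ).app (op (𝒰.obj i)) (FreeAbelianGroup.of (tautPt 𝒰 i)))
    (fun φ ψ => funext fun i => by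
      rw [unSheafify_add]
      rfl)

/-- the values as an equivalence of sets -/
noncomputable def valHomEquiv : ((freeFam J).obj 𝒰 ⟶ F) ≃ ∀ i : 𝒰.I, F.obj.obj (op (𝒰.obj i)) :=
  ((sheafificationAdjunction J AddCommGrpCat.{u}).homEquiv ((freePre C).obj _) F).trans
    (((AddCommGrpCat.adj.{u}.whiskerRight Cᵒᵖ).homEquiv (FormalCoproduct.yoneda.{u}.obj 𝒰) F.obj).trans
      { toFun := fun θ i => θ.app (op (𝒰.obj i)) (tautPt 𝒰 i)
        invFun := fun s => Sigma.desc fun i => yonedaEquiv.symm (s i)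
        left_inv := fun θ => Sigma.hom_ext _ _ fun i =>
          (Sigma.ι_desc _ i).trans (yonedaEquiv.injective ((Equiv.apply_symm_apply _ _).trans rfl))
        right_inv := fun s => funext fun i => by
          show (Sigma.ι (fun i => yoneda.obj (𝒰.obj i)) i ≫
            Sigma.desc (fun j => (yonedaEquiv (F := F.obj ⋙ forget AddCommGrpCat.{u})).symm (s j))).app (op (𝒰.obj i)) (𝟙 (𝒰.obj i)) = s i
          rw [Sigma.ι_desc]
          exact (yonedaEquiv (F := F.obj ⋙ forget AddCommGrpCat.{u})).apply_symm_apply (s i) })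

lemma valHom_bijective : Function.Bijective (valHom F 𝒰) := by
  have h : ⇑(valHom F 𝒰) = ⇑(valHomEquiv F 𝒰) := by
    funext φ
    funext i
    rfl
  rw [h]
  exact (valHomEquiv F 𝒰).bijective

/-- values of a presheaf on a formal coproduct -/
noncomputable abbrev evalVal : AddCommGrpCat.{u} :=
  ((FormalCoproduct.evalOp.{u} C AddCommGrpCat.{u}).obj F.obj).obj (op 𝒰)

/-- the components of a value -/
noncomputable def compVal : evalVal F 𝒰 →+ ∀ i : 𝒰.I, F.obj.obj (op (𝒰.obj i)) :=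
  AddMonoidHom.mk' (fun x i => Pi.π (fun i : 𝒰.I => F.obj.obj (op (𝒰.obj i))) i x)
    (fun _ _ => funext fun _ => map_add _ _ _)

lemma compVal_bijective : Function.Bijective (compVal F 𝒰) := by
  let e := Concrete.productEquiv (fun i : 𝒰.I => F.obj.obj (op (𝒰.obj i)))
  have he : ∀ x, compVal F 𝒰 x = e x := fun x =>
    funext fun i => (Concrete.productEquiv_apply_apply _ x i).symm
  exact ⟨fun x y h => e.injective ((he x).symm.trans (h.trans (he y))),
    fun s => ⟨e.symm s, (he _).trans (e.apply_symm_apply s)⟩⟩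

/-- maps out of the free sheaf are values -/
noncomputable def valEquiv : ((freeFam J).obj 𝒰 ⟶ F) ≃+ evalVal F 𝒰 :=
  (AddEquiv.ofBijective _ (valHom_bijective F 𝒰)).trans (AddEquiv.ofBijective _ (compVal_bijective F 𝒰)).symm

variable {F 𝒰}

lemma compVal_valEquiv (φ : (freeFam J).obj 𝒰 ⟶ F) : compVal F 𝒰 (valEquiv F 𝒰 φ) = valHom F 𝒰 φ :=
  (AddEquiv.ofBijective _ (compVal_bijective F 𝒰)).apply_symm_apply _

lemma valEquiv_map {𝒱 : FormalCoproduct.{u} C} (f : 𝒰 ⟶ 𝒱) (φ : (freeFam J).obj 𝒱 ⟶ F) :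
    valEquiv F 𝒰 ((freeFam J).map f ≫ φ) =
      ((FormalCoproduct.evalOp.{u} C AddCommGrpCat.{u}).obj F.obj).map f.op (valEquiv F 𝒱 φ) := by
  apply (compVal_bijective F 𝒰).1
  rw [compVal_valEquiv]
  funext i
  show (unSheafify ((freeShF J).map (FormalCoproduct.yoneda.map f) ≫ φ)).app (op (𝒰.obj i))
    (FreeAbelianGroup.of (tautPt 𝒰 i)) = _
  rw [unSheafify_map]
  refine Eq.trans ?_ (ConcreteCategory.congr_hom (Pi.lift_π
    (fun i => Pi.π (fun j : 𝒱.I => F.obj.obj (op (𝒱.obj j))) (f.f i) ≫ F.obj.map (f.φ i).op) i) (valEquiv F 𝒱 φ)).symm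
  refine Eq.trans ?_ (congrArg (fun v => F.obj.map (f.φ i).op (v (f.f i))) (compVal_valEquiv φ).symm)
  show (unSheafify φ).app (op (𝒰.obj i))
      (FreeAbelianGroup.map ((FormalCoproduct.yoneda.map f).app (op (𝒰.obj i))) (FreeAbelianGroup.of (tautPt 𝒰 i))) = _
  rw [FreeAbelianGroup.map_of_apply, tautPt_map]
  refine Eq.trans ?_ (NatTrans.naturality_apply (unSheafify φ) (f.φ i).op (FreeAbelianGroup.of (tautPt 𝒱 (f.f i))))
  exact congrArg ((unSheafify φ).app (op (𝒰.obj i))) (FreeAbelianGroup.map_of_apply _).symm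

lemma valEquiv_comp {G : Sheaf J AddCommGrpCat.{u}} (φ : (freeFam J).obj 𝒰 ⟶ F) (g : F ⟶ G) :
    valEquiv G 𝒰 (φ ≫ g) =
      ((FormalCoproduct.evalOp.{u} C AddCommGrpCat.{u}).map g.hom).app (op 𝒰) (valEquiv F 𝒰 φ) := by
  apply (compVal_bijective G 𝒰).1
  rw [compVal_valEquiv]
  funext i
  refine Eq.trans ?_ (ConcreteCategory.congr_hom (Pi.map_π (fun i : 𝒰.I => g.hom.app (op (𝒰.obj i))) i) (valEquiv F 𝒰 φ)).symm
  refine Eq.trans ?_ (congrArg (fun v => g.hom.app (op (𝒰.obj i)) (v i)) (compVal_valEquiv φ).symm)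
  show (unSheafify (φ ≫ g)).app _ _ = _
  rw [unSheafify_comp]
  rfl

/-- degreewise dual simplicial objects have dual alternating complexes -/
lemma alternating_dual {A : Type*} [Category* A] [Preadditive A] (S : SimplicialObject A)
    (T : CosimplicialObject AddCommGrpCat.{u}) (M : A) (e : ∀ n, (S.obj (op ⦋n⦌) ⟶ M) ≃+ T.obj ⦋n⦌)
    (he : ∀ n (i : Fin (n + 2)) φ, e (n + 1) (S.δ i ≫ φ) = T.δ i (e n φ)) (n : ℕ) (φ : S.obj (op ⦋n⦌) ⟶ M) :
    e (n + 1) ((AlternatingFaceMapComplex.obj S).d (n + 1) n ≫ φ) =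
      (AlternatingCofaceMapComplex.obj T).d n (n + 1) (e n φ) := by
  simp only [AlternatingCofaceMapComplex.obj, CochainComplex.of_d, AlternatingCofaceMapComplex.objD,
    AlternatingFaceMapComplex.obj, ChainComplex.of_d, AlternatingFaceMapComplex.objD,
    Preadditive.sum_comp, Preadditive.zsmul_comp, map_sum, map_zsmul, he]
  exact (map_sum (AddMonoidHom.mk' (fun ψ : T.obj ⦋n⦌ ⟶ T.obj ⦋n + 1⦌ => ψ.hom (e n φ)) (fun _ _ => rfl))
    (fun i : Fin (n + 2) => (-1 : ℤ) ^ (i : ℕ) • T.δ i) Finset.univ).symm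

end Groth.Agent.Hypercov
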